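import Cfsg.Agent.Lib.ScnTwo.Shape

/-!
# The derived subgroup is the centre, of exponent two
-/

set_option autoImplicit false

open scoped commutatorElement

namespace Cfsg.Agent.Lib.ScnTwo

universe u

variable {P : Type u} [Group P] [Finite P] {Γ : Subgroup (MulAut P)}

/-- A group of class two with at most four central cosets has a cyclic derived subgroup. -/
theorem commutator_le_zpowers (hcen : ∀ a b : P, ⁅a, b⁆ ∈ Subgroup.center P)
    (hidx : (Subgroup.center P).index ≤ 4) {x y : P} (hxy : x * y ≠ y * x) :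
    commutator P ≤ Subgroup.zpowers ⁅x, y⁆ := by
  set Z := Subgroup.center P with hZ
  set U := Subgroup.zpowers ⁅x, y⁆ with hU
  set K := Subgroup.closure ((Z : Set P) ∪ {x}) with hK
  set H := Subgroup.closure ((Z : Set P) ∪ {x, y}) with hH
  have hZK : Z ≤ K := fun z hz => Subgroup.subset_closure (Or.inl hz)
  have hKH : K ≤ H := Subgroup.closure_mono (Set.union_subset_union_right _ (by simp))
  have hxK : x ∈ K := Subgroup.subset_closure (Or.inr rfl)
  have hxZ : x ∉ Z := fun h => hxy (Subgroup.mem_center_iff.1 h y).symm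
  have hyK : y ∉ K := by
    have hle : K ≤ Subgroup.centralizer ({x} : Set P) := by
      rw [hK, Subgroup.closure_le]
      rintro k (hk | hk)
      · exact Subgroup.mem_centralizer_singleton_iff.2 (Subgroup.mem_center_iff.1 hk x).symm
      · rw [Set.mem_singleton_iff.1 hk]
        exact Subgroup.mem_centralizer_singleton_iff.2 rfl
    exact fun h => hxy (Subgroup.mem_centralizer_singleton_iff.1 (hle h)).symm
  have htop : H = ⊤ := by
    rw [← Subgroup.index_eq_one]
    have h1 := Subgroup.relIndex_mul_index (hZK.trans hKH)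
    have h2 := Subgroup.relIndex_mul_relIndex Z K H hZK hKH
    have h3 : Z.relIndex K ≠ 1 := fun h => hxZ (Subgroup.relIndex_eq_one.1 h hxK)
    have h4 : K.relIndex H ≠ 1 := fun h =>
      hyK (Subgroup.relIndex_eq_one.1 h (Subgroup.subset_closure (Or.inr (by simp))))
    have h5 : Z.index ≠ 0 := Subgroup.index_ne_zero_of_finite
    rw [← h1, ← h2] at hidx h5
    have h6 : Z.relIndex K ≠ 0 := fun h => h5 (by simp [h])
    have h7 : K.relIndex H ≠ 0 := fun h => h5 (by simp [h])
    have h8 : H.index ≠ 0 := fun h => h5 (by simp [h])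
    have : 4 ≤ Z.relIndex K * K.relIndex H :=
      Nat.mul_le_mul (show 2 ≤ Z.relIndex K by omega) (show 2 ≤ K.relIndex H by omega)
    by_contra h9
    have : 2 ≤ H.index := by omega
    nlinarith
  have key : ∀ d : P, (∀ b ∈ ({x, y} : Set P), ⁅b, d⁆ ∈ U) → ∀ b : P, ⁅b, d⁆ ∈ U := by
    intro d hd b
    have hb : b ∈ H := htop.symm ▸ Subgroup.mem_top b
    induction hb using Subgroup.closure_induction with
    | mem b hb =>
      rcases hb with hb | hb
      · rw [commutatorElement_eq_one_iff_mul_comm.2 (Subgroup.mem_center_iff.1 hb d).symm]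
        exact U.one_mem
      · exact hd b hb
    | one => simp [U.one_mem]
    | mul b c _ _ h1 h2 =>
      rw [show ⁅b * c, d⁆ = b * ⁅c, d⁆ * b⁻¹ * ⁅b, d⁆ by simp only [commutatorElement_def]; group,
        Subgroup.mem_center_iff.1 (hcen c d) b, mul_inv_cancel_right]
      exact U.mul_mem h2 h1
    | inv b _ h1 =>
      rw [show ⁅b⁻¹, d⁆ = b⁻¹ * ⁅b, d⁆⁻¹ * b⁻¹⁻¹ by simp only [commutatorElement_def]; group,
        Subgroup.mem_center_iff.1 (Z.inv_mem (hcen b d)) b⁻¹, mul_inv_cancel_right]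
      exact U.inv_mem h1
  rw [commutator_def, Subgroup.commutator_le]
  intro a _ b _
  refine key b (fun d hd => ?_) a
  rw [← commutatorElement_inv]
  refine U.inv_mem (key d (fun e he => ?_) b)
  rcases hd with rfl | rfl <;> rcases he with rfl | rfl
  · simp [U.one_mem]
  · rw [← commutatorElement_inv]; exact U.inv_mem (Subgroup.mem_zpowers _)
  · exact Subgroup.mem_zpowers _
  · simp [U.one_mem]

section

variable (S : Setup Γ) (hna : ¬ IsMulCommutative P)
  (hc : ∀ C : Subgroup P, C.Normal → IsMulCommutative ↥C → (∀ δ ∈ Γ, ∀ c ∈ C, δ c ∈ C) →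
    C ≤ Subgroup.center P)

include S hna hc

omit hna in
theorem central_commutator : commutator P ≤ Subgroup.center P := by
  have hnil := S.two.isNilpotent
  set Z2 := Subgroup.upperCentralSeries P 2 with hZ2
  have hZ2c : Z2.Characteristic := inferInstance
  set C := commutator P ⊓ Z2 with hC
  have hCc : C.Characteristic := by
    rw [Subgroup.characteristic_iff_map_le]
    intro φ
    rintro _ ⟨x, ⟨hx1, hx2⟩, rfl⟩
    exact ⟨MinNC8.map_mem_of_char φ hx1, MinNC8.map_mem_of_char φ hx2⟩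
  have hmem : ∀ x ∈ Z2, ∀ y : P, ⁅x, y⁆ ∈ Subgroup.center P := by
    intro x hx y
    have h := Subgroup.mem_upperCentralSeries_succ_iff.mp hx y
    rw [Subgroup.upperCentralSeries_one] at h
    exact h
  have hbot : ⁅⁅(⊤ : Subgroup P), Z2⁆, (⊤ : Subgroup P)⁆ = ⊥ := by
    rw [Subgroup.commutator_eq_bot_iff_le_centralizer, Subgroup.coe_top,
      Subgroup.centralizer_univ, Subgroup.commutator_comm, Subgroup.commutator_le]
    exact fun x hx y _ => hmem x hx y
  have hbot' : ⁅⁅Z2, (⊤ : Subgroup P)⁆, (⊤ : Subgroup P)⁆ = ⊥ := by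
    rwa [Subgroup.commutator_comm Z2]
  have hPZ : ⁅commutator P, Z2⁆ = ⊥ :=
    Subgroup.commutator_commutator_eq_bot_of_rotate hbot hbot'
  have hCcomm : IsMulCommutative ↥C := by
    refine ⟨⟨fun x y => Subtype.ext ?_⟩⟩
    have h : ⁅(x : P), (y : P)⁆ ∈ (⊥ : Subgroup P) :=
      hPZ ▸ Subgroup.commutator_mem_commutator x.2.1 y.2.2
    exact commutatorElement_eq_one_iff_mul_comm.mp (Subgroup.mem_bot.mp h)
  have hCZ : C ≤ Subgroup.center P :=
    hc C inferInstance hCcomm fun δ _ c hc => MinNC8.map_mem_of_char δ hc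
  by_contra hnot
  set π := QuotientGroup.mk' (Subgroup.center P) with hπ
  have hN : ((commutator P).map π).Normal :=
    Subgroup.Normal.map inferInstance π (QuotientGroup.mk'_surjective _)
  have hN0 : (commutator P).map π ≠ ⊥ := fun h => hnot (by
    rwa [Subgroup.map_eq_bot_iff, QuotientGroup.ker_mk'] at h)
  obtain ⟨q, hq, hq1⟩ := (Subgroup.bot_or_exists_ne_one _).resolve_left
    (Solvable.inf_center_ne_bot hN0)
  obtain ⟨⟨x, hx, rfl⟩, hqc⟩ := hq
  refine hq1 ((QuotientGroup.eq_one_iff _).mpr (hCZ ⟨hx, ?_⟩))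
  refine Subgroup.mem_upperCentralSeries_succ_iff.mpr fun y => ?_
  rw [Subgroup.upperCentralSeries_one]
  rw [← QuotientGroup.eq_one_iff]
  have h1 := Subgroup.mem_center_iff.mp hqc (π y)
  change π ⁅x, y⁆ = 1
  rw [map_commutatorElement, commutatorElement_eq_one_iff_mul_comm]
  exact h1.symm

/-- **The centre, when all invariant abelian normal subgroups are central.** -/
theorem central_shape : (∀ x : P, x ^ 2 ∈ Subgroup.center P) ∧ commutator P = Subgroup.center P ∧
    ∀ z ∈ Subgroup.center P, z ^ 2 = 1 := by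
  have hnil := S.two.isNilpotent
  have hcen := central_commutator S hc
  have hcen' : ∀ a b : P, ⁅a, b⁆ ∈ Subgroup.center P := fun a b =>
    hcen (Subgroup.commutator_mem_commutator (Subgroup.mem_top a) (Subgroup.mem_top b))
  obtain ⟨N, hN⟩ := IsPGroup.iff_card.mp S.two
  have hex : ∃ e : ℕ, ∀ x y : P, ⁅x, y⁆ ^ 2 ^ e = 1 := ⟨N, fun x y => hN ▸ pow_card_eq_one'⟩
  classical
  set e := Nat.find hex with he
  have hee : ∀ x y : P, ⁅x, y⁆ ^ 2 ^ e = 1 := Nat.find_spec hex
  have he1 : e ≤ 1 := by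
    by_contra hlt
    set h := (e + 1) / 2 with hh
    set s : Set P := {y | ∃ x : P, x ^ 2 ^ h = y} with hs
    have hchar : (Subgroup.closure s).Characteristic := MinNC8.characteristic_closure (by
      rintro φ _ ⟨x, rfl⟩
      exact Subgroup.subset_closure ⟨φ x, (map_pow φ x _).symm⟩)
    have habY : IsMulCommutative ↥(Subgroup.closure s) := by
      apply Subgroup.isMulCommutative_closure
      rintro _ ⟨x, rfl⟩ _ ⟨y, rfl⟩
      have hr : ∀ n : ℕ, ⁅x, y ^ n⁆ = ⁅x, y⁆ ^ n := fun n => by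
        rw [← commutatorElement_inv, MinNC8.commutator_pow_left hcen', ← inv_pow, commutatorElement_inv]
      rw [← commutatorElement_eq_one_iff_mul_comm, MinNC8.commutator_pow_left hcen', hr, ← pow_mul,
        ← pow_add]
      obtain ⟨c, hc'⟩ := pow_dvd_pow 2 (show e ≤ h + h by omega)
      rw [hc', pow_mul, hee, one_pow]
    have hYZ := hc _ inferInstance habY fun δ _ c hc => MinNC8.map_mem_of_char δ hc
    refine Nat.find_min hex (show h < e by omega) fun x y => ?_
    rw [← MinNC8.commutator_pow_left hcen', commutatorElement_eq_one_iff_mul_comm]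
    exact (Subgroup.mem_center_iff.mp (hYZ (Subgroup.subset_closure ⟨x, rfl⟩)) y).symm
  have hc2 : ∀ x y : P, ⁅x, y⁆ ^ 2 = 1 := by
    intro x y
    have h := hee x y
    interval_cases e
    · simp only [pow_zero, pow_one] at h
      rw [h, one_pow]
    · simpa using h
  have hsq : ∀ x : P, x ^ 2 ∈ Subgroup.center P := by
    intro x
    rw [Subgroup.mem_center_iff]
    intro g
    have h := hc2 x g
    rw [← MinNC8.commutator_pow_left hcen', commutatorElement_eq_one_iff_mul_comm] at h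
    exact h.symm
  set Z := Subgroup.center P with hZdef
  have hZc : IsMulCommutative ↥Z := MinNC8.comm_of_le_center le_rfl
  have hinv : ∀ δ ∈ Γ, ∀ z ∈ Z, δ z ∈ Z := fun δ _ z hz => MinNC8.map_mem_of_char δ hz
  have hle0 : commutator P ≤ omega Z hZc := by
    rw [commutator_def, Subgroup.commutator_le]
    exact fun a _ b _ => ⟨hcen' a b, hc2 a b⟩
  suffices h : commutator P = Z from ⟨hsq, h, fun z hz => (hle0 (h.symm ▸ hz)).2⟩
  refine le_antisymm hcen ?_
  by_cases hfix : ∀ δ ∈ Γ, ∀ z ∈ Z, δ z = z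
  · set ab := (Abelianization.of : P →* Abelianization P) with hab'
    have hker : ∀ y : P, ab y = 1 ↔ y ∈ commutator P := fun y => by
      rw [← MonoidHom.mem_ker, hab', Abelianization.ker_of]
    have hsq' : ∀ x : P, ab x ^ 2 = 1 := by
      let f : P →* Abelianization P :=
        { toFun := fun x => ab x ^ 2
          map_one' := by simp
          map_mul' := fun x y => by rw [map_mul, mul_pow] }
      have hf : f.ker = ⊤ := by
        rw [eq_top_iff, ← S.gen, Subgroup.closure_le]
        rintro _ ⟨γ, hγ, x, rfl⟩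
        change ab (γ x * x⁻¹) ^ 2 = 1
        rw [map_mul, mul_pow, ← map_pow, ← map_pow, ← map_pow, hfix γ hγ _ (hsq x), inv_pow,
          map_inv, mul_inv_cancel]
      exact fun x => MonoidHom.mem_ker.mp (hf.symm ▸ Subgroup.mem_top x : x ∈ f.ker)
    cases nonempty_fintype ↥Γ
    let f : P →* Abelianization P :=
      { toFun := fun x => ∏ γ : ↥Γ, ab ((γ : MulAut P) x)
        map_one' := by simp
        map_mul' := fun x y => by simp [Finset.prod_mul_distrib] }
    have hf : f.ker = ⊤ := by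
      rw [eq_top_iff, ← S.gen, Subgroup.closure_le]
      rintro _ ⟨γ, hγ, x, rfl⟩
      change f (γ x * x⁻¹) = 1
      rw [map_mul, map_inv, mul_inv_eq_one]
      exact Fintype.prod_equiv (Equiv.mulRight ⟨γ, hγ⟩) _ _ fun δ => rfl
    intro z hz
    have h1 : f z = 1 := MonoidHom.mem_ker.mp (hf.symm ▸ Subgroup.mem_top z : z ∈ f.ker)
    have h2 : ab z ^ Nat.card ↥Γ = 1 := by
      rw [← h1, Nat.card_eq_fintype_card, ← Finset.card_univ, ← Finset.prod_const]
      exact Finset.prod_congr rfl fun γ _ => by rw [hfix γ γ.2 z hz]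
    obtain ⟨k, hk⟩ := S.odd
    rw [hk, pow_succ, pow_mul, hsq' z, one_pow, one_mul] at h2
    exact (hker z).mp h2
  obtain ⟨γ, R⟩ := S.exists_rot (W := Z) inferInstance hZc hinv hfix
  obtain ⟨x, y, hxy⟩ : ∃ x y : P, x * y ≠ y * x := by
    by_contra h
    push Not at h
    exact hna ⟨⟨h⟩⟩
  have hne : commutator P ≠ ⊥ := fun h => hxy (commutatorElement_eq_one_iff_mul_comm.1
    (Subgroup.mem_bot.1 (h ▸ Subgroup.commutator_mem_commutator (Subgroup.mem_top x) (Subgroup.mem_top y))))
  have e0 : commutator P = omega Z hZc :=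
    R.eq_of_inv hle0 hne fun u hu => MinNC8.map_mem_of_char γ hu
  by_cases hQ : powers Z hZc 2 = ⊥
  · intro z hz
    rw [e0]
    exact ⟨hz, Subgroup.mem_bot.1 (hQ ▸ (⟨z, hz, rfl⟩ : z ^ 2 ∈ powers Z hZc 2))⟩
  exfalso
  set Q := powers Z hZc 2 with hQdef
  have hQZ : Q ≤ Z := by
    rintro _ ⟨w, hw, rfl⟩
    exact Z.pow_mem hw 2
  have hQn : Q.Normal := ⟨fun q hq g => by
    rwa [Subgroup.mem_center_iff.1 (hQZ hq) g, mul_inv_cancel_right]⟩
  have hZQ : omega Z hZc ≤ Q := by
    obtain ⟨v, hv, hv1⟩ := (Subgroup.bot_or_exists_ne_one _).resolve_left hQ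
    obtain ⟨k, hk⟩ := IsPGroup.iff_orderOf.mp S.two v
    have hk0 : k ≠ 0 := by
      rintro rfl
      exact hv1 (orderOf_eq_one_iff.mp (by simpa using hk))
    have hpow : orderOf (v ^ 2 ^ (k - 1)) = 2 := by
      rw [orderOf_pow' v (by positivity), hk, Nat.gcd_eq_right (pow_dvd_pow 2 (by omega)),
        Nat.pow_div (by omega) (by norm_num), show k - (k - 1) = 1 by omega, pow_one]
    set v' := v ^ 2 ^ (k - 1)
    have hv' : v' ∈ Q := Q.pow_mem hv _
    have e := R.eq_of_inv (U := omega Z hZc ⊓ Q) inf_le_left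
      (fun h => by
        have h1 : v' = 1 := Subgroup.mem_bot.1
          (h ▸ Subgroup.mem_inf.2 ⟨⟨hQZ hv', hpow ▸ pow_orderOf_eq_one v'⟩, hv'⟩)
        rw [h1, orderOf_one] at hpow
        omega)
      fun u hu => ⟨R.inv γ R.mem u hu.1, by
        obtain ⟨w, hw, rfl⟩ := hu.2
        exact ⟨γ w, hinv γ R.mem w hw, (map_pow γ w 2).symm⟩⟩
    exact e ▸ inf_le_right
  -- the squaring map into the centre modulo its squares
  have hcQ : ∀ a b : P, ⁅a, b⁆ ∈ Q := fun a b =>
    hZQ (e0 ▸ Subgroup.commutator_mem_commutator (Subgroup.mem_top a) (Subgroup.mem_top b))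
  let s : P →* ↥Z ⧸ Q.subgroupOf Z :=
    { toFun := fun a => ((⟨a ^ 2, hsq a⟩ : ↥Z) : ↥Z ⧸ Q.subgroupOf Z)
      map_one' := (QuotientGroup.eq_one_iff _).2 (by simp [Subgroup.mem_subgroupOf, Q.one_mem])
      map_mul' := fun a b => by
        rw [← QuotientGroup.mk_mul, QuotientGroup.eq, Subgroup.mem_subgroupOf]
        change ((a * b) ^ 2)⁻¹ * (a ^ 2 * b ^ 2) ∈ Q
        rw [show ((a * b) ^ 2)⁻¹ * (a ^ 2 * b ^ 2) = (b ^ 2)⁻¹ * ⁅a⁻¹, b⁆⁻¹ * (b ^ 2)⁻¹⁻¹ by
          simp only [commutatorElement_def, mul_inv_rev, inv_inv, sq, mul_assoc, inv_mul_cancel_left]]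
        exact hQn.conj_mem _ (Q.inv_mem (hcQ _ _)) _ }
  have hker : s.ker ≤ Z := by
    intro a ha
    obtain ⟨u, hu, hue⟩ : a ^ 2 ∈ Q := by
      have := (QuotientGroup.eq_one_iff _).1 (MonoidHom.mem_ker.1 ha)
      rwa [Subgroup.mem_subgroupOf] at this
    by_contra haZ
    set t := a * u⁻¹ with htdef
    have ht2 : t ^ 2 = 1 := by
      rw [htdef, (show Commute a u⁻¹ from Subgroup.mem_center_iff.1 (Z.inv_mem hu) a).mul_pow, ← hue,
        inv_pow, mul_inv_cancel]
    have htZ : t ∉ Z := fun h => haZ (by simpa [htdef] using Z.mul_mem h hu)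
    set B := Subgroup.closure ((omega Z hZc : Set P) ∪ {t}) with hB
    have hcomm : IsMulCommutative ↥B := by
      apply Subgroup.isMulCommutative_closure
      rintro p (hp | hp) q (hq | hq)
      · exact (Subgroup.mem_center_iff.1 hp.1 q).symm
      · exact (Subgroup.mem_center_iff.1 hp.1 q).symm
      · exact Subgroup.mem_center_iff.1 hq.1 p
      · rw [Set.mem_singleton_iff.1 hp, Set.mem_singleton_iff.1 hq]
    have hsqB : ∀ v ∈ B, v ^ 2 = 1 := by
      intro v hv
      induction hv using Subgroup.closure_induction with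
      | mem p hp =>
        rcases hp with hp | hp
        · exact hp.2
        · rw [Set.mem_singleton_iff.1 hp]; exact ht2
      | one => exact one_pow 2
      | mul p q hp hq h1 h2 =>
        rw [(show Commute p q from congrArg Subtype.val (hcomm.is_comm.comm ⟨p, hp⟩ ⟨q, hq⟩)).mul_pow,
          h1, h2, one_mul]
      | inv p hp h1 => rw [inv_pow, h1, inv_one]
    have hXB : commutator P ≤ B := fun c hc => Subgroup.subset_closure (Or.inl (e0 ▸ hc))
    have hn : B.Normal := ⟨fun p hp g => by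
      rw [show g * p * g⁻¹ = ⁅g, p⁆ * p by rw [commutatorElement_def]; group]
      exact B.mul_mem (hXB (Subgroup.commutator_mem_commutator (Subgroup.mem_top g) (Subgroup.mem_top p))) hp⟩
    have hle := S.rank B hn hcomm B le_rfl hsqB
    have hZB : omega Z hZc ≤ B := fun p hp => Subgroup.subset_closure (Or.inl hp)
    have := Subgroup.eq_of_le_of_card_ge hZB (by rw [R.card]; exact hle)
    exact htZ (this ▸ (Subgroup.subset_closure (Or.inr rfl) : t ∈ B) : t ∈ omega Z hZc).1
  have hcard : Nat.card (↥Z ⧸ Q.subgroupOf Z) = 4 := by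
    letI : CommGroup ↥Z := { (inferInstance : Group ↥Z) with mul_comm := fun a b => hZc.is_comm.comm a b }
    let h : ↥Z →* ↥Z := powMonoidHom 2
    have er : h.range = Q.subgroupOf Z := by
      ext w
      rw [MonoidHom.mem_range, Subgroup.mem_subgroupOf]
      exact ⟨fun ⟨v, hv⟩ => ⟨v, v.2, congrArg Subtype.val hv⟩,
        fun ⟨v, hv, hw⟩ => ⟨⟨v, hv⟩, Subtype.ext hw⟩⟩
    have ek : Nat.card h.ker = Nat.card ↥(omega Z hZc) :=
      Nat.card_congr
        { toFun := fun w => ⟨(w.1 : P), w.1.2, congrArg Subtype.val w.2⟩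
          invFun := fun w => ⟨⟨w.1, w.2.1⟩, Subtype.ext w.2.2⟩
          left_inv := fun w => rfl
          right_inv := fun w => rfl }
    have h1 := h.range.card_mul_index
    have h2 := h.ker.card_mul_index
    rw [Subgroup.index_ker] at h2
    rw [← h2, mul_comm (Nat.card h.ker)] at h1
    change (Q.subgroupOf Z).index = 4
    rw [← er, Nat.eq_of_mul_eq_mul_left Nat.card_pos h1, ek, R.card]
  have hidx : Z.index ≤ 4 := by
    have h1 : Z.index ≤ s.ker.index :=
      Nat.le_of_dvd (Nat.pos_of_ne_zero Subgroup.index_ne_zero_of_finite) (Subgroup.index_dvd_of_le hker)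
    rw [Subgroup.index_ker] at h1
    exact h1.trans ((Nat.card_le_card_of_injective _ Subtype.val_injective).trans hcard.le)
  have hle := Subgroup.card_le_of_le (commutator_le_zpowers hcen' hidx hxy)
  rw [e0, R.card, Nat.card_zpowers] at hle
  have := orderOf_le_of_pow_eq_one (by norm_num) (hc2 x y)
  omega

end

/-- **The derived subgroup is the centre, of exponent two.** -/
theorem Setup.shape (S : Setup Γ) (hna : ¬ IsMulCommutative P) :
    (∀ x : P, x ^ 2 ∈ Subgroup.center P) ∧ commutator P = Subgroup.center P ∧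
      ∀ z ∈ Subgroup.center P, z ^ 2 = 1 := by
  by_cases hc : ∀ C : Subgroup P, C.Normal → IsMulCommutative ↥C →
      (∀ δ ∈ Γ, ∀ c ∈ C, δ c ∈ C) → C ≤ Subgroup.center P
  · exact central_shape S hna hc
  push Not at hc
  obtain ⟨W₀, hn₀, hc₀, hi₀, hnc₀⟩ := hc
  obtain ⟨W, hW₀, ⟨hWn, hWc, hWi⟩, hmax⟩ := Set.Finite.exists_le_maximal
    (Set.toFinite {M : Subgroup P | M.Normal ∧ IsMulCommutative ↥M ∧ ∀ δ ∈ Γ, ∀ m ∈ M, δ m ∈ M})
    (show W₀ ∈ _ from ⟨hn₀, hc₀, hi₀⟩)
  have hWnc : ¬ W ≤ Subgroup.center P := fun h => hnc₀ (hW₀.trans h)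
  obtain ⟨γ, R⟩ := S.exists_rot hWn hWc hWi fun h => hWnc (central_of_fixed S.gen hWn h)
  exact Top.shape ⟨S, hWn, hWc, hWi, hWnc, fun M h1 h2 h3 hWM => hmax ⟨h1, h2, h3⟩ hWM, R⟩

end Cfsg.Agent.Lib.ScnTwo
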