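import Cfsg.Agent.Lib.ScnTwo.Central

/-!
# The squaring map of a group whose derived subgroup is the centre, of exponent two
-/

set_option autoImplicit false

open scoped commutatorElement

namespace Cfsg.Agent.Lib.ScnTwo

universe u

variable {P : Type u} [Group P]

/-- The derived subgroup is the centre, of exponent two. -/
structure Sp (P : Type u) [Group P] : Prop where
  sq : ∀ x : P, x ^ 2 ∈ Subgroup.center P
  comm : commutator P = Subgroup.center P
  exp : ∀ z ∈ Subgroup.center P, z ^ 2 = 1

/-- The squaring map on the central quotient. -/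
noncomputable def qf (v : P ⧸ Subgroup.center P) : P := v.out ^ 2

/-- The commutator map on the central quotient. -/
noncomputable def cf (v w : P ⧸ Subgroup.center P) : P := ⁅v.out, w.out⁆

/-- The sign of an element with respect to a subgroup. -/
noncomputable def sgn (K : Subgroup P) (y : P) : ℤ :=
  letI := Classical.propDecidable
  if y ∈ K then 1 else -1

theorem sgn_cases (K : Subgroup P) (y : P) : sgn K y = 1 ∨ sgn K y = -1 := by
  unfold sgn
  split_ifs <;> simp

theorem sgn_sq (K : Subgroup P) (y : P) : sgn K y * sgn K y = 1 := by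
  rcases sgn_cases K y with h | h <;> simp [h]

theorem sgn_eq_one {K : Subgroup P} {y : P} : sgn K y = 1 ↔ y ∈ K := by
  unfold sgn
  split_ifs with h <;> simp [h]

theorem sgn_mul {K : Subgroup P} (h : K.relIndex (Subgroup.center P) = 2) {a b : P}
    (ha : a ∈ Subgroup.center P) (hb : b ∈ Subgroup.center P) :
    sgn K (a * b) = sgn K a * sgn K b := by
  have h1 := Subgroup.mul_mem_iff_of_index_two h (a := (⟨a, ha⟩ : ↥(Subgroup.center P))) (b := ⟨b, hb⟩)
  simp only [Subgroup.mem_subgroupOf, Subgroup.coe_mul] at h1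
  unfold sgn
  split_ifs <;> simp_all

namespace Sp

variable (H : Sp P)

include H

theorem mem_center (a b : P) : ⁅a, b⁆ ∈ Subgroup.center P :=
  H.comm ▸ Subgroup.commutator_mem_commutator (Subgroup.mem_top a) (Subgroup.mem_top b)

theorem inv_self {z : P} (hz : z ∈ Subgroup.center P) : z⁻¹ = z := by
  rw [inv_eq_iff_mul_eq_one, ← pow_two]
  exact H.exp z hz

theorem symm (a b : P) : ⁅b, a⁆ = ⁅a, b⁆ := by
  rw [← commutatorElement_inv a b, H.inv_self (H.mem_center a b)]

theorem mul_left (a b d : P) : ⁅a * b, d⁆ = ⁅a, d⁆ * ⁅b, d⁆ := by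
  rw [show ⁅a * b, d⁆ = a * ⁅b, d⁆ * a⁻¹ * ⁅a, d⁆ by simp only [commutatorElement_def]; group,
    Subgroup.mem_center_iff.1 (H.mem_center b d) a, mul_inv_cancel_right]
  exact (Subgroup.mem_center_iff.1 (H.mem_center b d) _).symm

theorem mul_right (a b d : P) : ⁅d, a * b⁆ = ⁅d, a⁆ * ⁅d, b⁆ := by
  rw [H.symm (a * b) d, H.mul_left, H.symm a d, H.symm b d]

theorem sq_mul (a b : P) : (a * b) ^ 2 = a ^ 2 * b ^ 2 * ⁅a, b⁆ := by
  have h1 : ⁅a⁻¹, b⁆ = ⁅a, b⁆ := by
    have h := H.mul_left a a⁻¹ b
    rw [mul_inv_cancel, commutatorElement_one_left] at h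
    rw [← inv_eq_of_mul_eq_one_right h.symm, H.inv_self (H.mem_center a b)]
  calc (a * b) ^ 2 = a ^ 2 * ⁅a⁻¹, b⁆ * b ^ 2 := by
        simp only [commutatorElement_def, pow_two, inv_inv, mul_assoc, inv_mul_cancel_left,
          mul_inv_cancel_left]
    _ = a ^ 2 * b ^ 2 * ⁅a, b⁆ := by
        rw [h1, mul_assoc, mul_assoc, Subgroup.mem_center_iff.1 (H.mem_center a b) (b ^ 2)]

theorem q_mk (x : P) : qf (x : P ⧸ Subgroup.center P) = x ^ 2 := by
  obtain ⟨z, hz⟩ := QuotientGroup.mk_out_eq_mul (Subgroup.center P) x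
  rw [qf, hz, (show Commute x (z : P) from Subgroup.mem_center_iff.1 z.2 x).mul_pow, H.exp _ z.2,
    mul_one]

theorem c_mk (x y : P) : cf (x : P ⧸ Subgroup.center P) y = ⁅x, y⁆ := by
  obtain ⟨z, hz⟩ := QuotientGroup.mk_out_eq_mul (Subgroup.center P) x
  obtain ⟨z', hz'⟩ := QuotientGroup.mk_out_eq_mul (Subgroup.center P) y
  have k : ∀ (g : P) (w : ↥(Subgroup.center P)), ⁅(w : P), g⁆ = 1 := fun g w =>
    commutatorElement_eq_one_iff_mul_comm.2 (Subgroup.mem_center_iff.1 w.2 g).symm
  rw [cf, hz, hz', H.mul_left, H.mul_right, k, H.symm (z' : P) x, k, mul_one, mul_one]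

theorem q_mem (v : P ⧸ Subgroup.center P) : qf v ∈ Subgroup.center P := H.sq _

theorem c_mem (v w : P ⧸ Subgroup.center P) : cf v w ∈ Subgroup.center P := H.mem_center _ _

theorem c_symm (v w : P ⧸ Subgroup.center P) : cf v w = cf w v := H.symm _ _

theorem c_mul (u v w : P ⧸ Subgroup.center P) : cf (u * v) w = cf u w * cf v w := by
  induction u using QuotientGroup.induction_on with
  | _ a =>
    induction v using QuotientGroup.induction_on with
    | _ b =>
      induction w using QuotientGroup.induction_on with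
      | _ d => rw [← QuotientGroup.mk_mul, H.c_mk, H.c_mk, H.c_mk, H.mul_left]

theorem c_self (v : P ⧸ Subgroup.center P) : cf v v = 1 := commutatorElement_self _

theorem sq_one (v : P ⧸ Subgroup.center P) : v * v = 1 := by
  induction v using QuotientGroup.induction_on with
  | _ a =>
    rw [← QuotientGroup.mk_mul, QuotientGroup.eq_one_iff, ← pow_two]
    exact H.sq a

theorem q_one : qf (1 : P ⧸ Subgroup.center P) = 1 := by
  rw [← QuotientGroup.mk_one, H.q_mk, one_pow]

theorem ne_one_of_c {v w : P ⧸ Subgroup.center P} (h : cf v w ≠ 1) : v ≠ 1 := by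
  rintro rfl
  refine h ?_
  induction w using QuotientGroup.induction_on with
  | _ d => rw [← QuotientGroup.mk_one, H.c_mk, commutatorElement_one_left]

theorem exists_c_ne_one {v : P ⧸ Subgroup.center P} (hv : v ≠ 1) : ∃ w, cf w v ≠ 1 := by
  induction v using QuotientGroup.induction_on with
  | _ a =>
    by_contra h
    push Not at h
    refine hv ((QuotientGroup.eq_one_iff a).2 (Subgroup.mem_center_iff.2 fun g => ?_))
    have h1 := h g
    rw [H.c_mk] at h1
    exact commutatorElement_eq_one_iff_mul_comm.1 h1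

theorem g_eq {K : Subgroup P} (hK : K.relIndex (Subgroup.center P) = 2)
    (v h : P ⧸ Subgroup.center P) :
    sgn K (qf v) * sgn K (qf (v * h)) * sgn K (qf h) = sgn K (cf v h) := by
  induction v using QuotientGroup.induction_on with
  | _ a =>
    induction h using QuotientGroup.induction_on with
    | _ b =>
      rw [← QuotientGroup.mk_mul, H.q_mk, H.q_mk, H.q_mk, H.c_mk, H.sq_mul,
        sgn_mul hK ((Subgroup.center P).mul_mem (H.sq a) (H.sq b)) (H.mem_center a b),
        sgn_mul hK (H.sq a) (H.sq b)]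
      rcases sgn_cases K (a ^ 2) with e | e <;> rcases sgn_cases K (b ^ 2) with e' | e' <;>
        simp [e, e']

end Sp

/-- A quadratic sum of signs. -/
theorem gauss {A : Type u} [Group A] [Fintype A] (f : A → ℤ) (hf : ∀ a, f a * f a = 1)
    (hmul : ∀ h v w, f (v * w) * f (v * w * h) * f h = f v * f (v * h) * f h * (f w * f (w * h) * f h)) :
    ∃ r : ℤ, (∑ a, f a) * (∑ a, f a) = Fintype.card A * r ∧
      ((∀ h, h ≠ 1 → ∃ v, f v * f (v * h) * f h ≠ 1) → r = f 1) := by
  classical
  have hunit : ∀ h v, f v * f (v * h) * f h = 1 ∨ f v * f (v * h) * f h = -1 := fun h v =>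
    mul_self_eq_one_iff.1 (by
      calc f v * f (v * h) * f h * (f v * f (v * h) * f h)
          = (f v * f v) * (f (v * h) * f (v * h)) * (f h * f h) := by ring
        _ = 1 := by rw [hf, hf, hf]; norm_num)
  set R := Finset.univ.filter fun h => ∀ v, f v * f (v * h) * f h = 1 with hR
  refine ⟨∑ h ∈ R, f h, ?_, fun hnd => ?_⟩
  · have hsum : ∀ h, f h * (∑ v, f v * f (v * h) * f h) =
        if h ∈ R then (Fintype.card A : ℤ) * f h else 0 := by
      intro h
      split_ifs with hh
      · rw [Finset.sum_congr rfl fun v _ => (Finset.mem_filter.1 hh).2 v, Finset.sum_const,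
          Finset.card_univ, nsmul_eq_mul, mul_one, mul_comm]
      · obtain ⟨v₀, hv₀⟩ : ∃ v, f v * f (v * h) * f h ≠ 1 := by simpa [hR] using hh
        have h1 : (∑ v, f v * f (v * h) * f h) = -(∑ v, f v * f (v * h) * f h) := by
          rw [← Finset.sum_neg_distrib]
          refine (Fintype.sum_equiv (Equiv.mulLeft v₀) _ _ fun v => ?_).symm
          change -(f v * f (v * h) * f h) = f (v₀ * v) * f (v₀ * v * h) * f h
          rw [hmul, (hunit h v₀).resolve_left hv₀, neg_one_mul]
        rw [show (∑ v, f v * f (v * h) * f h) = 0 by linarith, mul_zero]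
    calc (∑ a, f a) * (∑ a, f a) = ∑ v, ∑ h, f v * f (v * h) := by
          rw [Finset.sum_mul]
          refine Finset.sum_congr rfl fun v _ => ?_
          rw [← Finset.mul_sum]
          exact congrArg (f v * ·) (Fintype.sum_equiv (Equiv.mulLeft v) _ _ fun h => rfl).symm
      _ = ∑ h, f h * (∑ v, f v * f (v * h) * f h) := by
          rw [Finset.sum_comm]
          refine Finset.sum_congr rfl fun h _ => ?_
          rw [Finset.mul_sum]
          refine Finset.sum_congr rfl fun v _ => ?_
          linear_combination (-(f v * f (v * h))) * hf h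
      _ = _ := by
          rw [Finset.sum_congr rfl fun h _ => hsum h, Finset.sum_ite_mem, Finset.univ_inter,
            Finset.mul_sum]
  · have hR1 : R = {1} := by
      ext h
      simp only [hR, Finset.mem_filter, Finset.mem_univ, true_and, Finset.mem_singleton]
      refine ⟨fun hh => by_contra fun hne => ?_, ?_⟩
      · obtain ⟨v, hv⟩ := hnd h hne
        exact hv (hh v)
      · rintro rfl v
        rw [mul_one, hf, one_mul]
        have := hmul 1 1 1
        simp only [mul_one] at this
        rw [hf, one_mul] at this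
        rcases mul_self_eq_one_iff.1 (hf 1) with e | e
        · exact e
        · rw [e] at this; norm_num at this
    rw [hR1, Finset.sum_singleton]

theorem sum_sign {A : Type u} [Fintype A] (f : A → ℤ) (hf : ∀ a, f a = 1 ∨ f a = -1)
    [DecidablePred fun a => f a = 1] :
    (∑ a, f a) = 2 * (Finset.univ.filter fun a => f a = 1).card - Fintype.card A := by
  rw [Finset.card_filter, Nat.cast_sum, Finset.mul_sum, ← Finset.card_univ, Finset.card_eq_sum_ones,
    Nat.cast_sum, ← Finset.sum_sub_distrib]
  refine Finset.sum_congr rfl fun a _ => ?_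
  rcases hf a with e | e <;> simp [e]

end Cfsg.Agent.Lib.ScnTwo
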