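import Cfsg.Agent.Lib.ScnTwo.Count

/-!
# The three groups
-/

set_option autoImplicit false

open scoped commutatorElement

namespace Cfsg.Agent.Lib.ScnTwo

universe u

variable {P : Type u} [Group P] [Finite P] {Γ : Subgroup (MulAut P)}

local notation "V" => P ⧸ Subgroup.center P

theorem two_mul_card_le {H K : Subgroup P} (h : H < K) : 2 * Nat.card ↥H ≤ Nat.card ↥K := by
  obtain ⟨k, hk⟩ := Subgroup.card_dvd_of_le h.le
  rcases k with _ | _ | k
  · exact absurd (hk.trans (Nat.mul_zero _)) Nat.card_pos.ne'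
  · exact absurd (Subgroup.eq_of_le_of_card_ge h.le (by rw [hk]; simp)) h.ne
  · rw [hk, mul_comm 2]
    exact Nat.mul_le_mul_left _ (by omega)

section

variable (S : Setup Γ) (H : Sp P)

include S H

/-- A set of commuting involutions spans with the centre at most four elements. -/
theorem small_closure (s : Set P) (hs : ∀ x ∈ s, x ^ 2 = 1)
    (hcs : ∀ x ∈ s, ∀ y ∈ s, x * y = y * x) :
    Nat.card ↥(Subgroup.closure ((Subgroup.center P : Set P) ∪ s)) ≤ 4 := by
  set B := Subgroup.closure ((Subgroup.center P : Set P) ∪ s) with hB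
  have hcomm : IsMulCommutative ↥B := by
    apply Subgroup.isMulCommutative_closure
    rintro p (hp | hp) q (hq | hq)
    · exact (Subgroup.mem_center_iff.1 hp q).symm
    · exact (Subgroup.mem_center_iff.1 hp q).symm
    · exact Subgroup.mem_center_iff.1 hq p
    · exact hcs p hp q hq
  have hsqB : ∀ v ∈ B, v ^ 2 = 1 := by
    intro v hv
    induction hv using Subgroup.closure_induction with
    | mem p hp => exact hp.elim (H.exp p) (hs p)
    | one => exact one_pow 2
    | mul p q hp hq h1 h2 =>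
      rw [(show Commute p q from congrArg Subtype.val (hcomm.is_comm.comm ⟨p, hp⟩ ⟨q, hq⟩)).mul_pow,
        h1, h2, one_mul]
    | inv p hp h1 => rw [inv_pow, h1, inv_one]
  have hn : B.Normal := ⟨fun p hp g => by
    rw [show g * p * g⁻¹ = ⁅g, p⁆ * p by rw [commutatorElement_def]; group]
    exact B.mul_mem (Subgroup.subset_closure (Or.inl (H.mem_center g p))) hp⟩
  exact S.rank B hn hcomm B le_rfl hsqB

theorem card_center_le : Nat.card ↥(Subgroup.center P) ≤ 4 :=
  S.rank _ inferInstance (MinNC8.comm_of_le_center le_rfl) _ le_rfl H.exp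

/-- No involution outside a centre of order four. -/
theorem no_singular_four (h4 : Nat.card ↥(Subgroup.center P) = 4) {v : V} (hv : qf v = 1) : v = 1 := by
  induction v using QuotientGroup.induction_on with
  | _ a =>
    rw [H.q_mk] at hv
    by_contra hne
    have ha : a ∉ Subgroup.center P := fun h => hne ((QuotientGroup.eq_one_iff a).2 h)
    have h1 := small_closure S H {a} (by simpa using hv) (by simp)
    have h2 : Subgroup.center P < Subgroup.closure ((Subgroup.center P : Set P) ∪ {a}) :=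
      lt_of_le_not_ge (fun z hz => Subgroup.subset_closure (Or.inl hz))
        fun h => ha (h (Subgroup.subset_closure (Or.inr rfl)))
    have := two_mul_card_le h2
    omega

/-- Two commuting involutions outside the centre differ by a central element. -/
theorem no_pair (h2 : 2 ≤ Nat.card ↥(Subgroup.center P)) {u w : V} (hu : qf u = 1) (hw : qf w = 1)
    (hu1 : u ≠ 1) (hw1 : w ≠ 1) (huw : u ≠ w) : cf u w ≠ 1 := by
  induction u using QuotientGroup.induction_on with
  | _ a =>
    induction w using QuotientGroup.induction_on with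
    | _ b =>
      rw [H.q_mk] at hu hw
      rw [H.c_mk]
      intro hc
      have hab := commutatorElement_eq_one_iff_mul_comm.1 hc
      have hle := small_closure S H {a, b}
        (by rintro x (rfl | rfl) <;> assumption)
        (by rintro x (rfl | rfl) y (rfl | rfl) <;> first | rfl | exact hab | exact hab.symm)
      set Z := Subgroup.center P
      set B1 := Subgroup.closure ((Z : Set P) ∪ {a}) with hB1
      have l1 : Z < B1 := lt_of_le_not_ge (fun z hz => Subgroup.subset_closure (Or.inl hz))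
        fun h => hu1 ((QuotientGroup.eq_one_iff a).2 (h (Subgroup.subset_closure (Or.inr rfl))))
      have hz : B1 ≤ (Subgroup.zpowers (a : V)).comap (QuotientGroup.mk' Z) := by
        rw [hB1, Subgroup.closure_le]
        rintro x (hx | hx)
        · show (x : V) ∈ Subgroup.zpowers (a : V)
          rw [(QuotientGroup.eq_one_iff x).2 hx]
          exact Subgroup.one_mem _
        · rw [Set.mem_singleton_iff.1 hx]
          exact Subgroup.mem_zpowers _
      have hbB : b ∉ B1 := fun h => by
        have h' : (b : V) ∈ Subgroup.zpowers (a : V) := hz h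
        obtain ⟨i, hi⟩ := Subgroup.mem_zpowers_iff.1 h'
        rcases Int.even_or_odd' i with ⟨j, rfl | rfl⟩
        · rw [zpow_mul, zpow_two, H.sq_one, one_zpow] at hi
          exact hw1 hi.symm
        · rw [zpow_add, zpow_mul, zpow_two, H.sq_one, one_zpow, one_mul, zpow_one] at hi
          exact huw hi
      have l2 : B1 < Subgroup.closure ((Z : Set P) ∪ {a, b}) :=
        lt_of_le_not_ge (Subgroup.closure_mono (Set.union_subset_union_right _ (by simp)))
          fun h => hbB (h (Subgroup.subset_closure (Or.inr (by simp))))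
      have := two_mul_card_le l1
      have := two_mul_card_le l2
      omega

/-- Only the trivial class is fixed. -/
theorem eq_one_of_fixed {v : V} (h : ∀ δ ∈ Γ, ((δ v.out : P) : V) = v) : v = 1 := by
  induction v using QuotientGroup.induction_on with
  | _ a =>
    obtain ⟨z, hz⟩ := QuotientGroup.mk_out_eq_mul (Subgroup.center P) a
    set ab := (Abelianization.of : P →* Abelianization P) with hab'
    have hker : ∀ y : P, ab y = 1 ↔ y ∈ Subgroup.center P := fun y => by
      rw [← MonoidHom.mem_ker, hab', Abelianization.ker_of, H.comm]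
    have hfix : ∀ δ ∈ Γ, ab (δ a) = ab a := by
      intro δ hδ
      have h1 := h δ hδ
      rw [hz, map_mul, QuotientGroup.mk_mul_of_mem _ (MinNC8.map_mem_of_char δ z.2),
        QuotientGroup.eq, ← hker, map_mul, map_inv, inv_mul_eq_one] at h1
      exact h1
    cases nonempty_fintype ↥Γ
    let f : P →* Abelianization P :=
      { toFun := fun x => ∏ γ : ↥Γ, ab ((γ : MulAut P) x)
        map_one' := by simp
        map_mul' := fun x y => by simp [Finset.prod_mul_distrib] }
    have hf : f.ker = ⊤ := by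
      rw [eq_top_iff, ← S.gen, Subgroup.closure_le]
      rintro _ ⟨γ, hγ, x, rfl⟩
      change f (γ x * x⁻¹) = 1
      rw [map_mul, map_inv, mul_inv_eq_one]
      exact Fintype.prod_equiv (Equiv.mulRight ⟨γ, hγ⟩) _ _ fun δ => rfl
    have h1 : f a = 1 := MonoidHom.mem_ker.mp (hf.symm ▸ Subgroup.mem_top a : a ∈ f.ker)
    have h2 : ab a ^ Nat.card ↥Γ = 1 := by
      rw [← h1, Nat.card_eq_fintype_card, ← Finset.card_univ, ← Finset.prod_const]
      exact Finset.prod_congr rfl fun δ _ => (hfix δ δ.2).symm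
    have h3 : ab a ^ 2 = 1 := by rw [← map_pow, hker]; exact H.sq a
    obtain ⟨k, hk⟩ := S.odd
    rw [hk, pow_succ, pow_mul, h3, one_pow, one_mul] at h2
    exact (QuotientGroup.eq_one_iff a).2 ((hker a).1 h2)

omit S in
theorem q_act (δ : MulAut P) (v : V) : qf ((δ v.out : P) : V) = δ (qf v) := by
  rw [H.q_mk, qf, map_pow]

omit S in
theorem card_sq_one :
    Nat.card {x : P // x ^ 2 = 1} =
      Nat.card ↥(Subgroup.center P) * Nat.card {v : V // qf v = 1} := by
  rw [← Nat.card_prod]
  refine Nat.card_congr ?_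
  refine Equiv.trans (Equiv.subtypeEquivRight fun x => ?_)
    (QuotientGroup.preimageMkEquivSubgroupProdSet (Subgroup.center P) {v : V | qf v = 1})
  show x ^ 2 = 1 ↔ qf (x : V) = 1
  rw [H.q_mk]

omit S in
theorem card_involutions :
    Nat.card {x : P // orderOf x = 2} + 1 =
      Nat.card ↥(Subgroup.center P) * Nat.card {v : V // qf v = 1} := by
  rw [← card_sq_one H]
  have e : {x : P | orderOf x = 2} = {x : P | x ^ 2 = 1} \ {1} := by
    ext x
    simp [orderOf_eq_prime_iff]
  change Nat.card ↥{x : P | orderOf x = 2} + 1 = Nat.card ↥{x : P | x ^ 2 = 1}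
  rw [Nat.card_coe_set_eq, Nat.card_coe_set_eq, e,
    Set.ncard_diff_singleton_add_one (show (1 : P) ∈ {x : P | x ^ 2 = 1} by simp)]

/-- **Centre of order four.** -/
theorem classify_four (hna : ¬ IsMulCommutative P) (h4 : Nat.card ↥(Subgroup.center P) = 4) :
    Nat.card P = 64 ∧ Nat.card {x : P // orderOf x = 2} = 3 ∧
      ∀ x : P, orderOf x = 2 → x ∈ Subgroup.center P := by
  classical
  set Z := Subgroup.center P with hZ
  haveI : Fintype V := Fintype.ofFinite _
  have hone : ∀ v : V, qf v = 1 ↔ v = 1 :=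
    fun v => ⟨no_singular_four S H h4, fun e => e ▸ H.q_one⟩
  have hinv : Nat.card {x : P // orderOf x = 2} = 3 := by
    have h1 := card_involutions H
    have h2 : Nat.card {v : V // qf v = 1} = 1 := by
      rw [Nat.card_congr (Equiv.subtypeEquivRight hone)]
      exact Nat.card_eq_one_iff_unique.2
        ⟨⟨fun a b => Subtype.ext (a.2.trans b.2.symm)⟩, ⟨⟨1, rfl⟩⟩⟩
    rw [h4, h2] at h1
    omega
  refine ⟨?_, hinv, fun x hx => (QuotientGroup.eq_one_iff x).1 ((hone _).1 (by
    rw [H.q_mk]; exact hx ▸ pow_orderOf_eq_one x))⟩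
  obtain ⟨n, hn⟩ := IsPGroup.iff_card.mp (S.two.to_quotient Z)
  have hP : Nat.card P = 4 * 2 ^ n := by
    rw [← Z.card_mul_index, h4, ← hn]; rfl
  have hNV : (Fintype.card V : ℤ) = 2 ^ n := by
    rw [← Nat.card_eq_fintype_card, hn]; push_cast; rfl
  obtain ⟨x, y, hxy⟩ : ∃ x y : P, x * y ≠ y * x := by
    by_contra h
    push Not at h
    exact hna ⟨⟨h⟩⟩
  have hcyc : ∀ U : Subgroup P, Nat.card ↥U ≤ 2 → ¬ Z ≤ U := fun U hU h => by
    have := Subgroup.card_le_of_le h
    omega
  have hle2 : ∀ {g : P}, g ∈ Z → Nat.card ↥(Subgroup.zpowers g) ≤ 2 := fun {g} hg => by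
    rw [Nat.card_zpowers]
    exact orderOf_le_of_pow_eq_one (by norm_num) (H.exp g hg)
  have hn3 : 3 ≤ n := by
    by_contra h
    refine hcyc _ (hle2 (H.mem_center x y)) (H.comm.ge.trans (commutator_le_zpowers H.mem_center ?_ hxy))
    change Nat.card V ≤ 4
    rw [hn]
    exact (Nat.pow_le_pow_right (by norm_num) (show n ≤ 2 by omega)).trans_eq (by norm_num)
  have hn5 : n ≤ 4 := by
    by_contra hlt
    haveI : Fintype ↥Z := Fintype.ofFinite _
    set T := (Finset.univ : Finset ↥Z).erase 1 with hT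
    have hdvd : ∀ z ∈ T, (8 : ℤ) ∣ ∑ v : V, sgn (Subgroup.zpowers (z : P)) (qf v) := by
      intro z hz
      have hz1 : (z : P) ≠ 1 := fun e => (Finset.mem_erase.1 hz).1 (Subtype.ext e)
      have hidx : (Subgroup.zpowers (z : P)).relIndex Z = 2 := by
        have h1 := ((Subgroup.zpowers (z : P)).subgroupOf Z).card_mul_index
        rw [Nat.card_congr (Subgroup.subgroupOfEquivOfLe (Subgroup.zpowers_le.2 z.2)).toEquiv,
          Nat.card_zpowers, orderOf_eq_prime_iff.2 ⟨H.exp _ z.2, hz1⟩, h4] at h1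
        change ((Subgroup.zpowers (z : P)).subgroupOf Z).index = 2
        omega
      obtain ⟨r, hr, -⟩ := gauss (fun v : V => sgn (Subgroup.zpowers (z : P)) (qf v))
        (fun v => sgn_sq _ _) fun h v w => by
          simp only [H.g_eq hidx]
          rw [H.c_mul, sgn_mul hidx (H.c_mem _ _) (H.c_mem _ _)]
      have key : ∀ a : ℤ, (32 : ℤ) ∣ a * a → (8 : ℤ) ∣ a := by
        rintro a ⟨c, hc⟩
        obtain ⟨b, rfl⟩ : (2 : ℤ) ∣ a :=
          (Int.prime_two.dvd_mul.1 ⟨16 * c, by linarith⟩).elim id id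
        obtain ⟨d, rfl⟩ : (2 : ℤ) ∣ b :=
          (Int.prime_two.dvd_mul.1 ⟨4 * c, by linarith⟩).elim id id
        obtain ⟨e, rfl⟩ : (2 : ℤ) ∣ d :=
          (Int.prime_two.dvd_mul.1 ⟨c, by linarith⟩).elim id id
        exact ⟨e, by ring⟩
      refine key _ ⟨2 ^ (n - 5) * r, ?_⟩
      rw [hr, hNV, ← mul_assoc, show (32 : ℤ) = 2 ^ 5 by norm_num, ← pow_add,
        show 5 + (n - 5) = n by omega]
    have hval : ∀ v : V, ∑ z ∈ T, sgn (Subgroup.zpowers (z : P)) (qf v) =
        (if v = 1 then 4 else 0) - 1 := by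
      intro v
      have hTcard : T.card = 3 := by
        rw [hT, Finset.card_erase_of_mem (Finset.mem_univ _), Finset.card_univ,
          ← Nat.card_eq_fintype_card, h4]
      split_ifs with hv
      · rw [hv, H.q_one, Finset.sum_congr rfl fun z _ => sgn_eq_one.2 (Subgroup.one_mem _),
          Finset.sum_const, hTcard]
        norm_num
      have hq1 : qf v ≠ 1 := fun e => hv ((hone v).1 e)
      have hmem : ∀ z ∈ T, sgn (Subgroup.zpowers (z : P)) (qf v) =
          2 * (if z = ⟨qf v, H.q_mem v⟩ then 1 else 0) - 1 := by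
        intro z hz
        split_ifs with e
        · rw [sgn_eq_one.2 (by rw [e]; exact Subgroup.mem_zpowers _)]; norm_num
        · refine (sgn_cases _ _).resolve_left (fun h => ?_) |>.trans (by norm_num)
          obtain ⟨i, hi⟩ := Subgroup.mem_zpowers_iff.1 (sgn_eq_one.1 h)
          rcases Int.even_or_odd' i with ⟨j, rfl | rfl⟩
          · rw [zpow_mul, zpow_two, ← pow_two, H.exp _ z.2, one_zpow] at hi
            exact hq1 hi.symm
          · rw [zpow_add, zpow_mul, zpow_two, ← pow_two, H.exp _ z.2, one_zpow, one_mul, zpow_one] at hi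
            exact e (Subtype.ext hi)
      rw [Finset.sum_congr rfl hmem, Finset.sum_sub_distrib, ← Finset.mul_sum, Finset.sum_ite_eq',
        if_pos (show (⟨qf v, H.q_mem v⟩ : ↥Z) ∈ T from
          Finset.mem_erase.2 ⟨fun e => hq1 (congrArg Subtype.val e), Finset.mem_univ _⟩),
        Finset.sum_const, hTcard]
      norm_num
    have h8 : (8 : ℤ) ∣ 4 - 2 ^ n := by
      have h1 := Finset.dvd_sum hdvd
      rw [Finset.sum_comm, Finset.sum_congr rfl fun v _ => hval v, Finset.sum_sub_distrib,
        Finset.sum_ite_eq' Finset.univ (1 : V) (fun _ => (4 : ℤ)), if_pos (Finset.mem_univ _),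
        Finset.sum_const, Finset.card_univ, nsmul_eq_mul, mul_one, hNV] at h1
      exact h1
    have h9 : (8 : ℤ) ∣ 2 ^ n := ⟨2 ^ (n - 3), by
      rw [show (8 : ℤ) = 2 ^ 3 by norm_num, ← pow_add, show 3 + (n - 3) = n by omega]⟩
    have h10 := dvd_add h8 h9
    rw [sub_add_cancel] at h10
    norm_num at h10
  rcases Nat.lt_or_ge n 4 with hlt | hge
  swap
  · rw [hP, show n = 4 by omega]; norm_num
  exfalso
  have hn' : n = 3 := by omega
  subst hn'
  letI : MulAction ↥Γ V :=
    { smul := fun δ v => (((δ : MulAut P) v.out : P) : V)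
      one_smul := fun v => QuotientGroup.out_eq' v
      mul_smul := fun δ ε v => by
        change (((δ : MulAut P) ((ε : MulAut P) v.out) : P) : V) =
          (((δ : MulAut P) (((ε : MulAut P) v.out : P) : V).out : P) : V)
        obtain ⟨z, hz⟩ := QuotientGroup.mk_out_eq_mul Z ((ε : MulAut P) v.out)
        rw [hz, map_mul, QuotientGroup.mk_mul_of_mem _ (MinNC8.map_mem_of_char (δ : MulAut P) z.2)] }
  have hsmul : ∀ (δ : ↥Γ) (v : V), δ • v = (((δ : MulAut P) v.out : P) : V) := fun _ _ => rfl
  have hodd : ∀ v : V, Odd (MulAction.orbit ↥Γ v).ncard := fun v => by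
    rw [← MulAction.index_stabilizer]
    exact S.odd.of_dvd_nat (Subgroup.index_dvd_card _)
  have hfixed : ∀ v : V, v ≠ 1 → 3 ≤ (MulAction.orbit ↥Γ v).ncard := by
    intro v hv
    obtain ⟨j, hj⟩ := hodd v
    by_contra hlt
    refine hv (eq_one_of_fixed S H fun δ hδ => ?_)
    have h1 : (MulAction.orbit ↥Γ v).ncard ≤ 1 := by omega
    exact (Set.ncard_le_one (Set.toFinite _)).1 h1 _ ⟨⟨δ, hδ⟩, rfl⟩ _ (MulAction.mem_orbit_self v)
  have h1orb : ∀ v : V, v ≠ 1 → (1 : V) ∉ MulAction.orbit ↥Γ v := by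
    rintro v hv ⟨δ, hδ⟩
    apply hv
    change δ • v = 1 at hδ
    rw [← inv_smul_smul δ v, hδ, hsmul]
    have : qf (1 : V) = 1 := H.q_one
    exact (hone _).1 (by rw [q_act H, this, map_one])
  have horb : ∀ v : V, v ≠ 1 → MulAction.orbit ↥Γ v = {w | w ≠ 1} := by
    intro v hv
    have hsub : MulAction.orbit ↥Γ v ⊆ {w : V | w ≠ 1} := fun w hw e =>
      h1orb v hv ((show w = 1 from e) ▸ hw)
    have h7 : ({w : V | w ≠ 1}).ncard = 7 := by
      rw [show {w : V | w ≠ 1} = Set.univ \ {1} by ext; simp,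
        Set.ncard_diff_singleton_of_mem (Set.mem_univ _), Set.ncard_univ, hn]
      norm_num
    refine Set.eq_of_subset_of_ncard_le hsub ?_ (Set.toFinite _)
    by_contra hlt
    obtain ⟨w, hw, hwo⟩ : ∃ w ∈ {w : V | w ≠ 1}, w ∉ MulAction.orbit ↥Γ v :=
      Set.exists_mem_notMem_of_ncard_lt_ncard (not_le.1 hlt)
    have hd : Disjoint (MulAction.orbit ↥Γ v) (MulAction.orbit ↥Γ w) := by
      rw [Set.disjoint_left]
      intro a ha hb
      exact hwo (MulAction.orbit_eq_iff.2 ha ▸ (MulAction.orbit_eq_iff.2 hb).symm ▸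
        MulAction.mem_orbit_self w)
    have hsum : (MulAction.orbit ↥Γ v).ncard + (MulAction.orbit ↥Γ w).ncard ≤ 7 := by
      rw [← Set.ncard_union_eq hd, ← h7]
      exact Set.ncard_le_ncard (Set.union_subset hsub fun a ha e =>
        h1orb w hw ((show a = 1 from e) ▸ ha))
    obtain ⟨j, hj⟩ := hodd v
    obtain ⟨k, hk⟩ := hodd w
    have := hfixed v hv
    have := hfixed w hw
    -- a further class is left over
    obtain ⟨t, ht, hto⟩ : ∃ t ∈ {t : V | t ≠ 1}, t ∉ MulAction.orbit ↥Γ v ∪ MulAction.orbit ↥Γ w :=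
      Set.exists_mem_notMem_of_ncard_lt_ncard (by
        rw [Set.ncard_union_eq hd, h7]
        omega)
    have hd2 : Disjoint (MulAction.orbit ↥Γ v ∪ MulAction.orbit ↥Γ w) (MulAction.orbit ↥Γ t) := by
      rw [Set.disjoint_left]
      rintro a (ha | ha) hb
      · exact hto (Or.inl (MulAction.orbit_eq_iff.2 ha ▸ (MulAction.orbit_eq_iff.2 hb).symm ▸
          MulAction.mem_orbit_self t))
      · exact hto (Or.inr (MulAction.orbit_eq_iff.2 ha ▸ (MulAction.orbit_eq_iff.2 hb).symm ▸
          MulAction.mem_orbit_self t))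
    have hsum3 : (MulAction.orbit ↥Γ v).ncard + (MulAction.orbit ↥Γ w).ncard +
        (MulAction.orbit ↥Γ t).ncard ≤ 7 := by
      rw [← Set.ncard_union_eq hd, ← Set.ncard_union_eq hd2, ← h7]
      exact Set.ncard_le_ncard (Set.union_subset (Set.union_subset hsub fun a ha e =>
        h1orb w hw ((show a = 1 from e) ▸ ha)) fun a ha e => h1orb t ht ((show a = 1 from e) ▸ ha))
    have := hfixed t ht
    omega
  obtain ⟨v, hv⟩ : ∃ v : V, v ≠ 1 := by
    refine ⟨(x : V), fun e => hxy ?_⟩
    exact (Subgroup.mem_center_iff.1 ((QuotientGroup.eq_one_iff x).1 e) y).symm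
  -- the value is fixed
  have hq : ∀ δ : ↥Γ, (δ : MulAut P) (qf v) = qf v := by
    have h1 : (MulAction.stabilizer ↥Γ v) ≤ MulAction.stabilizer ↥Γ (qf v) := fun δ hδ => by
      change (δ : MulAut P) (qf v) = qf v
      rw [← q_act H, ← hsmul, MulAction.mem_stabilizer_iff.1 hδ]
    have h2 := Subgroup.index_dvd_of_le h1
    rw [MulAction.index_stabilizer, MulAction.index_stabilizer, horb v hv,
      show ({w : V | w ≠ 1}).ncard = 7 by
        rw [show {w : V | w ≠ 1} = Set.univ \ {1} by ext; simp,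
          Set.ncard_diff_singleton_of_mem (Set.mem_univ _), Set.ncard_univ, hn]
        norm_num] at h2
    have h3 : (MulAction.orbit ↥Γ (qf v)).ncard ≤ 4 := by
      rw [← h4, ← Nat.card_coe_set_eq]
      exact Nat.card_mono (Set.toFinite _) (by
        rintro _ ⟨δ, rfl⟩
        exact MinNC8.map_mem_of_char (δ : MulAut P) (H.q_mem v))
    have h4' : (MulAction.orbit ↥Γ (qf v)).ncard = 1 := by
      rcases (Nat.dvd_prime (by norm_num)).1 h2 with e | e
      · exact e
      · omega
    intro δ
    exact (Set.ncard_le_one (Set.toFinite _)).1 h4'.le _ ⟨δ, rfl⟩ _ (MulAction.mem_orbit_self _)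
  refine hcyc _ (hle2 (H.q_mem v)) ?_
  have hU : ∀ a : P, a ^ 2 ∈ Subgroup.zpowers (qf v) := fun a => by
    rw [← H.q_mk]
    by_cases ha : (a : V) = 1
    · rw [ha, H.q_one]; exact Subgroup.one_mem _
    obtain ⟨δ, hδ⟩ : (a : V) ∈ MulAction.orbit ↥Γ v := (horb v hv) ▸ ha
    change δ • v = (a : V) at hδ
    rw [← hδ, hsmul, q_act H, hq]
    exact Subgroup.mem_zpowers _
  refine H.comm.ge.trans ?_
  rw [commutator_def, Subgroup.commutator_le]
  intro a _ b _
  have e : ⁅a, b⁆ = (a ^ 2 * b ^ 2)⁻¹ * (a * b) ^ 2 := by rw [H.sq_mul a b, inv_mul_cancel_left]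
  rw [e]
  exact Subgroup.mul_mem _ (Subgroup.inv_mem _ (Subgroup.mul_mem _ (hU a) (hU b))) (hU _)

/-- **Centre of order two.** -/
theorem classify_two (hna : ¬ IsMulCommutative P) (h2 : Nat.card ↥(Subgroup.center P) = 2) :
    Nonempty (P ≃* QuaternionGroup 2) ∨
      (Nat.card P = 32 ∧ Nat.card {x : P // orderOf x = 2} = 11) := by
  classical
  set Z := Subgroup.center P with hZ
  haveI : Fintype V := Fintype.ofFinite _
  obtain ⟨n, hn⟩ := IsPGroup.iff_card.mp (S.two.to_quotient Z)
  have hP : Nat.card P = 2 * 2 ^ n := by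
    rw [← Z.card_mul_index, h2, ← hn]; rfl
  have hNV : (Fintype.card V : ℤ) = 2 ^ n := by
    rw [← Nat.card_eq_fintype_card, hn]; push_cast; rfl
  have hidx : (⊥ : Subgroup P).relIndex Z = 2 := by
    rw [Subgroup.relIndex_bot_left, h2]
  obtain ⟨z₀, hz₀, huniq⟩ := (Nat.card_eq_two_iff' (1 : ↥Z)).1 h2
  have hval : ∀ a ∈ Z, a ≠ 1 → a = z₀ := fun a ha ha1 =>
    congrArg Subtype.val (huniq ⟨a, ha⟩ fun e => ha1 (congrArg Subtype.val e))
  have hsg : ∀ y : P, sgn (⊥ : Subgroup P) y = 1 ↔ y = 1 := fun y => by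
    rw [sgn_eq_one, Subgroup.mem_bot]
  set f : V → ℤ := fun v => sgn (⊥ : Subgroup P) (qf v) with hf
  have hg : ∀ v h : V, f v * f (v * h) * f h = sgn (⊥ : Subgroup P) (cf v h) := H.g_eq hidx
  have hmul : ∀ h v w : V,
      f (v * w) * f (v * w * h) * f h = f v * f (v * h) * f h * (f w * f (w * h) * f h) := fun h v w => by
    rw [hg, hg, hg, H.c_mul, sgn_mul hidx (H.c_mem _ _) (H.c_mem _ _)]
  set M := (Finset.univ.filter fun v : V => f v = 1) with hM
  set m := M.card with hm
  have hfilter : ∀ v : V, v ∈ M ↔ qf v = 1 := fun v => by simp [hM, hf, hsg]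
  have hsum : (∑ v, f v) = 2 * (m : ℤ) - 2 ^ n := by
    rw [sum_sign f (fun v => sgn_cases _ _), hNV]
  obtain ⟨r, hr, hr1⟩ := gauss f (fun v => sgn_sq _ _) hmul
  rw [hr1 (fun h hh => by
      obtain ⟨w, hw⟩ := H.exists_c_ne_one hh
      exact ⟨w, by rw [hg]; exact fun e => hw ((hsg _).1 e)⟩),
    show f 1 = 1 from (hsg _).2 H.q_one, hsum, hNV, mul_one] at hr
  have hn0 : n ≠ 0 := fun h => hna ⟨⟨fun a b => by
    have h1 : Z.index = 1 := by change Nat.card V = 1; rw [hn, h]; rfl
    exact Subgroup.mem_center_iff.1 ((Subgroup.index_eq_one.1 h1).symm ▸ Subgroup.mem_top b : b ∈ Z) a⟩⟩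
  have h1M : (1 : V) ∈ M := (hfilter 1).2 H.q_one
  have hn5 : n ≤ 5 := by
    by_contra hlt
    have hbig : (64 : ℤ) ≤ 2 ^ n := by
      calc (64 : ℤ) = 2 ^ 6 := by norm_num
        _ ≤ 2 ^ n := pow_le_pow_right₀ (by norm_num) (by omega)
    by_cases hu : ∃ u ∈ M, u ≠ 1
    swap
    · push Not at hu
      have hm1 : m = 1 := le_antisymm
        (Finset.card_le_one.2 fun a ha b hb => (hu a ha).trans (hu b hb).symm)
        (Finset.card_pos.2 ⟨1, h1M⟩)
      rw [hm1] at hr
      push_cast at hr
      nlinarith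
    obtain ⟨u, huM, hu1⟩ := hu
    let φ : V →* P :=
      { toFun := fun v => cf v u
        map_one' := by rw [← QuotientGroup.mk_one, cf]; exact (by
          have := H.c_mul 1 1 u
          rw [mul_one] at this
          exact left_eq_mul.1 this : cf (1 : V) u = 1)
        map_mul' := fun v w => H.c_mul v w u }
    set W := φ.ker with hW
    haveI : Fintype ↥W := Fintype.ofFinite _
    have hWidx : W.index = 2 := by
      rw [hW, Subgroup.index_ker, ← h2]
      have hle : φ.range ≤ Z := by
        rintro _ ⟨v, rfl⟩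
        exact H.c_mem v u
      obtain ⟨w, hw⟩ := H.exists_c_ne_one hu1
      refine congrArg (fun K : Subgroup P => Nat.card ↥K) (Subgroup.eq_of_le_of_card_ge hle ?_)
      rw [h2]
      exact (Subgroup.one_lt_card_iff_ne_bot _).2 fun h => hw (Subgroup.mem_bot.1 (h ▸ ⟨w, rfl⟩))
    have hMW : (Fintype.card ↥W : ℤ) * 2 = 2 ^ n := by
      rw [← hNV, ← Nat.card_eq_fintype_card, ← Nat.card_eq_fintype_card, ← W.card_mul_index, hWidx]
      push_cast; rfl
    have huW : u ∈ W := MonoidHom.mem_ker.2 (H.c_self u)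
    have hzeros : (Finset.univ.filter fun w : ↥W => f w = 1).card = 2 := by
      rw [show (Finset.univ.filter fun w : ↥W => f w = 1) = {1, ⟨u, huW⟩} from ?_]
      · exact Finset.card_pair fun e => hu1 (congrArg Subtype.val e).symm
      ext w
      simp only [Finset.mem_filter, Finset.mem_univ, true_and, Finset.mem_insert, Finset.mem_singleton,
        hf, hsg]
      refine ⟨fun hw => ?_, ?_⟩
      · by_contra hne
        push Not at hne
        refine no_pair S H h2.ge hw ((hfilter u).1 huM) (fun e => hne.1 (Subtype.ext e)) hu1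
          (fun e => hne.2 (Subtype.ext e)) (MonoidHom.mem_ker.1 w.2)
      · rintro (rfl | rfl)
        · exact H.q_one
        · exact (hfilter u).1 huM
    obtain ⟨r', hr', -⟩ := gauss (fun w : ↥W => f w) (fun w => sgn_sq _ _)
      fun h v w => hmul h v w
    rw [sum_sign (fun w : ↥W => f w) (fun w => sgn_cases _ _), hzeros] at hr'
    set K : ℤ := (Fintype.card ↥W : ℤ)
    have hK : K ∣ 16 := ⟨r' - K + 8, by push_cast at hr'; linarith⟩
    have := Int.le_of_dvd (by norm_num) hK
    linarith
  have hnat : ∀ s : ℤ, s * s = 2 ^ n → (n = 2 ∧ (s = 2 ∨ s = -2)) ∨ (n = 4 ∧ (s = 4 ∨ s = -4)) := by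
    intro s hs
    have h1 : s ≤ 6 := by
      have : (2 : ℤ) ^ n ≤ 32 := (pow_le_pow_right₀ (by norm_num) hn5).trans_eq (by norm_num)
      nlinarith
    have h2 : -6 ≤ s := by
      have : (2 : ℤ) ^ n ≤ 32 := (pow_le_pow_right₀ (by norm_num) hn5).trans_eq (by norm_num)
      nlinarith
    have hn1 : 1 ≤ n := Nat.one_le_iff_ne_zero.2 hn0
    interval_cases n <;> interval_cases s <;> revert hs <;> norm_num
  rcases hnat _ hr with ⟨rfl, hs⟩ | ⟨rfl, hs⟩
  · left
    have hm' : m = 3 ∨ m = 1 := by rcases hs with e | e <;> norm_num at e <;> omega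
    rcases hm' with e | e
    · exfalso
      obtain ⟨v, hv⟩ : ∃ v, v ∉ M := by
        by_contra h
        push Not at h
        rw [hm, Finset.eq_univ_iff_forall.2 h, Finset.card_univ, ← Nat.card_eq_fintype_card, hn] at e
        norm_num at e
      have hone : ∀ w, w ∉ M → w = v := by
        intro w hw
        have hc : Mᶜ.card = 1 := by
          rw [Finset.card_compl, ← hm, e, ← Nat.card_eq_fintype_card, hn]; rfl
        exact Finset.card_le_one.1 hc.le w (Finset.mem_compl.2 hw) v (Finset.mem_compl.2 hv)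
      have hv1 : v ≠ 1 := fun e' => hv (e' ▸ h1M)
      refine hv1 (eq_one_of_fixed S H fun δ hδ => hone _ fun h => hv ?_)
      rw [hfilter, q_act H] at h
      exact (hfilter v).2 (δ.injective (h.trans (map_one δ).symm))
    have hone : ∀ x : P, x ^ 2 = 1 → x ∈ Z := fun x hx => (QuotientGroup.eq_one_iff x).1
      (Finset.card_le_one.1 e.le _ ((hfilter (x : V)).2 (by rw [H.q_mk]; exact hx)) 1 h1M)
    have huq : ∀ a b : P, orderOf a = 2 → orderOf b = 2 → a ∈ Subgroup.zpowers b := by
      intro a b ha hb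
      obtain ⟨ha1, ha2⟩ := orderOf_eq_prime_iff.1 ha
      obtain ⟨hb1, hb2⟩ := orderOf_eq_prime_iff.1 hb
      rw [hval a (hone a ha1) ha2, ← hval b (hone b hb1) hb2]
      exact Subgroup.mem_zpowers b
    rcases Frobenius.isCyclic_or_quaternion_of_unique S.two huq with hcy | ⟨-, k, ⟨eq⟩⟩
    · exact absurd (IsCyclic.isMulCommutative) hna
    · have h1 := Nat.card_congr eq.toEquiv
      rw [hP, Nat.card_eq_fintype_card, QuaternionGroup.card] at h1
      have hk : k = 0 := by
        by_contra hk
        have := Nat.pow_le_pow_right (show 0 < 2 by norm_num) (show 2 ≤ k + 1 by omega)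
        norm_num at h1 this
        omega
      subst hk
      exact ⟨eq⟩
  · right
    refine ⟨by rw [hP]; norm_num, ?_⟩
    have hm' : m = 10 ∨ m = 6 := by rcases hs with e | e <;> norm_num at e <;> omega
    rcases hm' with e | e
    · exfalso
      obtain ⟨u, huM, hu1⟩ := Finset.exists_mem_ne (show 1 < M.card by omega) (1 : V)
      have hq := (hfilter u).1 huM
      set O := Finset.univ.filter fun v : V => cf v u ≠ 1 with hO
      have hin : (M \ O).card ≤ 2 := by
        refine (Finset.card_le_card (t := {1, u}) ?_).trans (Finset.card_le_two)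
        intro v hv
        simp only [hO, Finset.mem_sdiff, Finset.mem_filter, Finset.mem_univ, true_and, not_not] at hv
        simp only [Finset.mem_insert, Finset.mem_singleton]
        by_contra hne
        push Not at hne
        exact no_pair S H h2.ge ((hfilter v).1 hv.1) hq hne.1 hu1 hne.2 hv.2
      have hOcard : O.card = 8 := by
        obtain ⟨w, hw⟩ := H.exists_c_ne_one hu1
        have hbij : O.card = Oᶜ.card := by
          refine Finset.card_bij (fun v _ => v * w) ?_ (fun a _ b _ h => mul_right_cancel h) ?_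
          · intro v hv
            simp only [hO, Finset.mem_filter, Finset.mem_univ, true_and, Finset.mem_compl] at hv ⊢
            rw [H.c_mul, hval _ (H.c_mem v u) hv, hval _ (H.c_mem w u) hw, not_not, ← pow_two]
            exact H.exp _ z₀.2
          · intro v hv
            simp only [hO, Finset.mem_filter, Finset.mem_univ, true_and, Finset.mem_compl, not_not] at hv ⊢
            exact ⟨v * w, by rw [H.c_mul, hv, one_mul]; exact hw, by rw [mul_assoc, H.sq_one, mul_one]⟩
        rw [Finset.card_compl, ← Nat.card_eq_fintype_card, hn] at hbij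
        omega
      have hall : O ⊆ M := by
        have h3 := Finset.card_sdiff_add_card_inter M O
        have h4 : M ∩ O = O := Finset.eq_of_subset_of_card_le Finset.inter_subset_right (by omega)
        exact fun v hv => (Finset.mem_inter.1 (h4.symm ▸ hv : v ∈ M ∩ O)).1
      obtain ⟨a, ha⟩ : ∃ a, a ∈ O := Finset.card_pos.1 (by omega)
      obtain ⟨b, hb, hbne⟩ : ∃ b ∈ O, b ∉ ({a, a * u} : Finset V) :=
        Finset.exists_mem_notMem_of_card_lt_card (by
          exact lt_of_le_of_lt Finset.card_le_two (by omega))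
      simp only [Finset.mem_insert, Finset.mem_singleton, not_or] at hbne
      have hbu : b * u ∈ O := by
        simp only [hO, Finset.mem_filter, Finset.mem_univ, true_and] at hb ⊢
        rwa [H.c_mul, H.c_self, mul_one]
      have hne : ∀ v ∈ O, v ≠ 1 := fun v hv => H.ne_one_of_c (Finset.mem_filter.1 hv).2
      have c1 := no_pair S H h2.ge ((hfilter a).1 (hall ha)) ((hfilter b).1 (hall hb)) (hne a ha)
        (hne b hb) (Ne.symm hbne.1)
      refine no_pair S H h2.ge ((hfilter _).1 (hall hbu)) ((hfilter a).1 (hall ha)) (hne _ hbu)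
        (hne a ha) (fun h => hbne.2 (by rw [← h, mul_assoc, H.sq_one, mul_one])) ?_
      rw [H.c_mul, H.c_symm u a, H.c_symm b a, hval _ (H.c_mem a b) c1,
        hval _ (H.c_mem a u) (Finset.mem_filter.1 ha).2, ← pow_two]
      exact H.exp _ z₀.2
    · have h3 := card_involutions H
      rw [h2] at h3
      have : Nat.card {v : V // qf v = 1} = 6 := by
        rw [Nat.card_congr (Equiv.subtypeEquivRight fun v => (hfilter v).symm),
          Nat.card_eq_fintype_card, Fintype.card_coe, ← hm, e]
      omega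

end

end Cfsg.Agent.Lib.ScnTwo
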