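import Cfsg.Agent.Lib.ScnTwo.Setup

/-!
# A non-central invariant abelian normal subgroup
-/

set_option autoImplicit false

open scoped commutatorElement

namespace Cfsg.Agent.Lib.ScnTwo

universe u

variable {P : Type u} [Group P] {Γ : Subgroup (MulAut P)}

/-- A largest invariant non-central abelian normal subgroup, with a fixed point free element. -/
structure Top (Γ : Subgroup (MulAut P)) (W : Subgroup P) (γ : MulAut P) : Prop where
  setup : Setup Γ
  normal : W.Normal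
  comm : IsMulCommutative ↥W
  inv : ∀ δ ∈ Γ, ∀ w ∈ W, δ w ∈ W
  noncentral : ¬ W ≤ Subgroup.center P
  max : ∀ M : Subgroup P, M.Normal → IsMulCommutative ↥M → (∀ δ ∈ Γ, ∀ m ∈ M, δ m ∈ M) →
    W ≤ M → M ≤ W
  rot : Rot Γ γ (omega W comm)

/-- The subgroup of `n`-th powers in an abelian subgroup. -/
def powers (W : Subgroup P) (hW : IsMulCommutative ↥W) (n : ℕ) : Subgroup P where
  carrier := {y | ∃ w ∈ W, w ^ n = y}
  one_mem' := ⟨1, W.one_mem, one_pow n⟩
  mul_mem' := fun {a b} ha hb => by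
    obtain ⟨v, hv, rfl⟩ := ha
    obtain ⟨w, hw, rfl⟩ := hb
    exact ⟨v * w, W.mul_mem hv hw,
      (show Commute v w from congrArg Subtype.val (hW.is_comm.comm ⟨v, hv⟩ ⟨w, hw⟩)).mul_pow n⟩
  inv_mem' := fun {a} ha => by
    obtain ⟨v, hv, rfl⟩ := ha
    exact ⟨v⁻¹, W.inv_mem hv, inv_pow v n⟩

theorem sq_of_mem_normal {x : P} {W : Subgroup P} (hn : W.Normal) {v : P} (hv : v ∈ W)
    (hcomm : ∀ a ∈ W, ∀ b ∈ W, a * b = b * a) (hx : x * x ∈ W) :
    (x * v) * (x * v) = ⁅x, v⁆ * (x * x * (v * v)) := by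
  have h1 : ⁅x, v⁆ ∈ W := by
    rw [commutatorElement_def]
    exact W.mul_mem (hn.conj_mem v hv x) (W.inv_mem hv)
  calc x * v * (x * v) = ⁅x, v⁆ * (v * (x * x)) * v := by rw [commutatorElement_def]; group
    _ = ⁅x, v⁆ * (x * x * v) * v := by rw [hcomm v hv _ hx]
    _ = _ := by group

variable [Finite P] {W : Subgroup P} {γ : MulAut P}

namespace Top

section

variable (T : Top Γ W γ)

include T

theorem cw : ∀ a ∈ W, ∀ b ∈ W, a * b = b * a := fun a ha b hb =>
  congrArg Subtype.val (T.comm.is_comm.comm ⟨a, ha⟩ ⟨b, hb⟩)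

theorem gw {w : P} (hw : w ∈ W) : γ w ∈ W := T.inv γ T.rot.mem w hw

theorem comm_mem (x : P) {w : P} (hw : w ∈ W) : ⁅x, w⁆ ∈ W := by
  rw [commutatorElement_def]
  exact W.mul_mem (T.normal.conj_mem w hw x) (W.inv_mem hw)

theorem f_mul (x : P) {v w : P} (hv : v ∈ W) (hw : w ∈ W) : ⁅x, v * w⁆ = ⁅x, v⁆ * ⁅x, w⁆ := by
  calc ⁅x, v * w⁆ = ⁅x, v⁆ * (v * ⁅x, w⁆ * v⁻¹) := by simp only [commutatorElement_def]; group
    _ = ⁅x, v⁆ * ⁅x, w⁆ := by rw [T.cw v hv _ (T.comm_mem x hw), mul_inv_cancel_right]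

theorem f_pow (x : P) {w : P} (hw : w ∈ W) (n : ℕ) : ⁅x, w ^ n⁆ = ⁅x, w⁆ ^ n := by
  induction n with
  | zero => simp
  | succ n ih => rw [pow_succ, T.f_mul x (W.pow_mem hw n) hw, ih, pow_succ]

theorem f_left (x y : P) {w : P} (hw : w ∈ W) :
    ⁅x * y, w⁆ = ⁅x, ⁅y, w⁆⁆ * ⁅y, w⁆ * ⁅x, w⁆ := by
  simp only [commutatorElement_def]; group

theorem f_inv (x : P) {w : P} (hw : w ∈ W) : ⁅x, w⁻¹⁆ = ⁅x, w⁆⁻¹ := by
  have h := T.f_mul x hw (W.inv_mem hw)
  rw [mul_inv_cancel, commutatorElement_one_right] at h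
  exact (inv_eq_of_mul_eq_one_right h.symm).symm

theorem omega_central : omega W T.comm ≤ Subgroup.center P := by
  have hn : (omega W T.comm).Normal := ⟨fun z hz g => ⟨T.normal.conj_mem z hz.1 g, by
    rw [← map_one (MulAut.conj g), ← hz.2, map_pow]; rfl⟩⟩
  have hnil := T.setup.two.isNilpotent
  have hne : omega W T.comm ≠ ⊥ := fun h => by
    have := T.rot.card
    rw [h, Subgroup.card_bot] at this
    omega
  have e := T.rot.eq_of_inv (U := omega W T.comm ⊓ Subgroup.center P) inf_le_left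
    (Solvable.inf_center_ne_bot hne) fun u hu =>
      ⟨T.rot.inv γ T.rot.mem u hu.1, MinNC8.map_mem_of_char γ hu.2⟩
  exact e ▸ inf_le_right

theorem sq_ne_bot : powers W T.comm 2 ≠ ⊥ := fun h => T.noncentral fun w hw =>
  T.omega_central ⟨hw, Subgroup.mem_bot.1 (h ▸ (⟨w, hw, rfl⟩ : w ^ 2 ∈ powers W T.comm 2))⟩

theorem omega_le_powers {n : ℕ} (hne : powers W T.comm n ≠ ⊥) :
    omega W T.comm ≤ powers W T.comm n := by
  obtain ⟨y, hy, hy1⟩ := (Subgroup.bot_or_exists_ne_one _).resolve_left hne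
  obtain ⟨k, hk⟩ := IsPGroup.iff_orderOf.mp T.setup.two y
  have hk0 : k ≠ 0 := by
    rintro rfl
    exact hy1 (orderOf_eq_one_iff.mp (by simpa using hk))
  have hpow : orderOf (y ^ 2 ^ (k - 1)) = 2 := by
    rw [orderOf_pow' y (by positivity), hk, Nat.gcd_eq_right (pow_dvd_pow 2 (by omega)),
      Nat.pow_div (by omega) (by norm_num), show k - (k - 1) = 1 by omega, pow_one]
  set y' := y ^ 2 ^ (k - 1)
  have hy' : y' ∈ powers W T.comm n := Subgroup.pow_mem _ hy _
  have hyW : y' ∈ W := by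
    obtain ⟨w, hw, e⟩ := hy'
    exact e ▸ W.pow_mem hw n
  have e := T.rot.eq_of_inv (U := omega W T.comm ⊓ powers W T.comm n) inf_le_left
    (fun h => by
      have h1 : y' = 1 := Subgroup.mem_bot.1
        (h ▸ Subgroup.mem_inf.2 ⟨⟨hyW, hpow ▸ pow_orderOf_eq_one y'⟩, hy'⟩)
      rw [h1, orderOf_one] at hpow
      omega)
    fun u hu => ⟨T.rot.inv γ T.rot.mem u hu.1, by
      obtain ⟨w, hw, rfl⟩ := hu.2
      exact ⟨γ w, T.gw hw, (map_pow γ w n).symm⟩⟩
  exact e ▸ inf_le_right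

theorem omega_le_sq : omega W T.comm ≤ powers W T.comm 2 := T.omega_le_powers T.sq_ne_bot

theorem sq_le : powers W T.comm 2 ≤ W := by
  rintro _ ⟨w, hw, rfl⟩
  exact W.pow_mem hw 2

theorem fix_eq_one {w : P} (hw : w ∈ W) (h : γ w = w) : w = 1 := by
  by_contra hw1
  obtain ⟨k, hk⟩ := IsPGroup.iff_orderOf.mp T.setup.two w
  have hk0 : k ≠ 0 := by
    rintro rfl
    exact hw1 (orderOf_eq_one_iff.mp (by simpa using hk))
  have hpow : orderOf (w ^ 2 ^ (k - 1)) = 2 := by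
    rw [orderOf_pow' w (by positivity), hk, Nat.gcd_eq_right (pow_dvd_pow 2 (by omega)),
      Nat.pow_div (by omega) (by norm_num), show k - (k - 1) = 1 by omega, pow_one]
  have h1 : w ^ 2 ^ (k - 1) = 1 :=
    T.rot.free _ ⟨W.pow_mem hw _, by
      have := pow_orderOf_eq_one (w ^ 2 ^ (k - 1))
      rwa [hpow] at this⟩ (by rw [map_pow, h])
  rw [h1, orderOf_one] at hpow
  omega

/-- Cosets of the squares are moved. -/
theorem free_sq {w : P} (hw : w ∈ W) (h : w⁻¹ * γ w ∈ powers W T.comm 2) :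
    w ∈ powers W T.comm 2 := by
  let S2 := powers W T.comm 2
  have hγS : ∀ s ∈ S2, s⁻¹ * γ s ∈ S2 := fun s hs => S2.mul_mem (S2.inv_mem hs) (by
    obtain ⟨v, hv, rfl⟩ := hs
    exact ⟨γ v, T.gw hv, (map_pow γ v 2).symm⟩)
  have hinj : ∀ a ∈ W, ∀ b ∈ W, a⁻¹ * γ a = b⁻¹ * γ b → a = b := by
    intro a ha b hb e
    have e2 : γ a = a * (b⁻¹ * γ b) := by rw [← e, mul_inv_cancel_left]
    have h1 : a * b⁻¹ = 1 := T.fix_eq_one (W.mul_mem ha (W.inv_mem hb)) (by
      rw [map_mul, map_inv, e2, ← mul_assoc, mul_inv_cancel_right])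
    exact mul_inv_eq_one.1 h1
  have hsurj : Function.Surjective (fun s : ↥S2 => (⟨_, hγS s s.2⟩ : ↥S2)) :=
    Finite.surjective_of_injective fun a b e =>
      Subtype.ext (hinj a (T.sq_le a.2) b (T.sq_le b.2) (congrArg Subtype.val e))
  obtain ⟨s, hs⟩ := hsurj ⟨_, h⟩
  rw [hinj w hw s (T.sq_le s.2) (congrArg Subtype.val hs).symm]
  exact s.2

theorem relIndex_sq : (powers W T.comm 2).relIndex W = 4 := by
  letI : CommGroup ↥W := { (inferInstance : Group ↥W) with mul_comm := fun a b => T.comm.is_comm.comm a b }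
  let h : ↥W →* ↥W := powMonoidHom 2
  have e : h.range = (powers W T.comm 2).subgroupOf W := by
    ext x
    rw [MonoidHom.mem_range, Subgroup.mem_subgroupOf]
    exact ⟨fun ⟨w, hw⟩ => ⟨w, w.2, congrArg Subtype.val hw⟩, fun ⟨w, hw, hx⟩ => ⟨⟨w, hw⟩, Subtype.ext hx⟩⟩
  have ek : Nat.card h.ker = Nat.card ↥(omega W T.comm) :=
    Nat.card_congr
      { toFun := fun x => ⟨(x.1 : P), x.1.2, congrArg Subtype.val x.2⟩
        invFun := fun x => ⟨⟨x.1, x.2.1⟩, Subtype.ext x.2.2⟩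
        left_inv := fun x => rfl
        right_inv := fun x => rfl }
  have h1 := h.range.card_mul_index
  have h2 := h.ker.card_mul_index
  rw [Subgroup.index_ker] at h2
  rw [Subgroup.relIndex, ← e]
  rw [← h2, mul_comm (Nat.card h.ker)] at h1
  rw [Nat.eq_of_mul_eq_mul_left Nat.card_pos h1, ek, T.rot.card]

/-- Three classes modulo the squares generate. -/
theorem four {V : Subgroup P} (hV : V ≤ W) (hS : powers W T.comm 2 ≤ V) {a b : P} (ha : a ∈ V)
    (hb : b ∈ V) (ha' : a ∉ powers W T.comm 2) (hb' : b ∉ powers W T.comm 2)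
    (hab : a⁻¹ * b ∉ powers W T.comm 2) : V = W := by
  set S2 := powers W T.comm 2
  have hmul := Subgroup.relIndex_mul_relIndex S2 V W hS hV
  rw [T.relIndex_sq] at hmul
  have h3 : 3 ≤ S2.relIndex V := by
    classical
    letI : Fintype (↥V ⧸ S2.subgroupOf V) := Fintype.ofFinite _
    rw [Subgroup.relIndex, Subgroup.index, Nat.card_eq_fintype_card]
    have hsub : ({((1 : ↥V) : ↥V ⧸ S2.subgroupOf V), ((⟨a, ha⟩ : ↥V) : ↥V ⧸ S2.subgroupOf V),
        ((⟨b, hb⟩ : ↥V) : ↥V ⧸ S2.subgroupOf V)} : Finset _).card ≤ Fintype.card (↥V ⧸ S2.subgroupOf V) :=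
      Finset.card_le_univ _
    rw [Finset.card_insert_of_notMem (by
        simp only [Finset.mem_insert, Finset.mem_singleton, QuotientGroup.eq, inv_one, one_mul,
          Subgroup.mem_subgroupOf]
        rintro (e | e)
        exacts [ha' e, hb' e]),
      Finset.card_pair (fun e => hab (by
        rw [QuotientGroup.eq, Subgroup.mem_subgroupOf] at e
        exact e))] at hsub
    exact hsub
  have hle : S2.relIndex V ≤ 4 := Nat.le_of_dvd (by norm_num) (Dvd.intro _ hmul)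
  have h1 : V.relIndex W = 1 := by
    interval_cases hr : S2.relIndex V <;> omega
  exact le_antisymm hV (Subgroup.relIndex_eq_one.1 h1)

/-- An involution outside moved only inside the four-group is impossible. -/
theorem no_invol {t : P} (ht : t ^ 2 = 1) (htW : t ∉ W) (hmove : ∀ g : P, ⁅g, t⁆ ∈ omega W T.comm) :
    False := by
  set Z := omega W T.comm with hZ
  set B := Subgroup.closure ((Z : Set P) ∪ {t}) with hB
  have hcomm : IsMulCommutative ↥B := by
    apply Subgroup.isMulCommutative_closure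
    rintro x (hx | hx) y (hy | hy)
    · exact (Subgroup.mem_center_iff.1 (T.omega_central hx) y).symm
    · exact (Subgroup.mem_center_iff.1 (T.omega_central hx) y).symm
    · exact Subgroup.mem_center_iff.1 (T.omega_central hy) x
    · rw [Set.mem_singleton_iff.1 hx, Set.mem_singleton_iff.1 hy]
  have hsq : ∀ e ∈ B, e ^ 2 = 1 := by
    intro e he
    induction he using Subgroup.closure_induction with
    | mem x hx =>
      rcases hx with hx | hx
      · exact hx.2
      · rw [Set.mem_singleton_iff.1 hx]; exact ht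
    | one => exact one_pow 2
    | mul x y hx hy h1 h2 =>
      rw [(show Commute x y from congrArg Subtype.val (hcomm.is_comm.comm ⟨x, hx⟩ ⟨y, hy⟩)).mul_pow,
        h1, h2, one_mul]
    | inv x hx h1 => rw [inv_pow, h1, inv_one]
  have hn : B.Normal := ⟨fun x hx g => by
    induction hx using Subgroup.closure_induction with
    | mem x hx =>
      rcases hx with hx | hx
      · rw [Subgroup.mem_center_iff.1 (T.omega_central hx) g, mul_inv_cancel_right]
        exact Subgroup.subset_closure (Or.inl hx)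
      · rw [Set.mem_singleton_iff.1 hx, show g * t * g⁻¹ = ⁅g, t⁆ * t by
          rw [commutatorElement_def]; group]
        exact B.mul_mem (Subgroup.subset_closure (Or.inl (hmove g))) (Subgroup.subset_closure (Or.inr rfl))
    | one => simp
    | mul x y _ _ h1 h2 =>
      have h3 := B.mul_mem h1 h2
      rwa [show g * x * g⁻¹ * (g * y * g⁻¹) = g * (x * y) * g⁻¹ by group] at h3
    | inv x _ h1 =>
      have h3 := B.inv_mem h1
      rwa [show (g * x * g⁻¹)⁻¹ = g * x⁻¹ * g⁻¹ by group] at h3⟩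
  have hle := T.setup.rank B hn hcomm B le_rfl hsq
  have hlt : Nat.card ↥Z < Nat.card ↥B := by
    have hZB : Z ≤ B := fun x hx => Subgroup.subset_closure (Or.inl hx)
    refine lt_of_le_of_ne (Subgroup.card_le_of_le hZB) fun e => htW ?_
    have h1 : t ∈ Z := (Subgroup.eq_of_le_of_card_ge hZB e.ge) ▸ Subgroup.subset_closure (Or.inr rfl)
    exact h1.1
  rw [T.rot.card] at hlt
  omega

theorem W_le_centralizer : W ≤ Subgroup.centralizer (W : Set P) := fun x hx =>
  Subgroup.mem_centralizer_iff.2 fun y hy => T.cw y hy x hx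

/-- The subgroup is self-centralizing. -/
theorem self_centralizing : Subgroup.centralizer (W : Set P) = W := by
  by_contra hne
  set D := Subgroup.centralizer (W : Set P) with hD
  haveI := T.normal
  have hDn : D.Normal := by rw [hD]; infer_instance
  have hγD : ∀ δ ∈ Γ, ∀ m ∈ D, δ m ∈ D := by
    intro δ hδ m hm
    refine Subgroup.mem_centralizer_iff.2 fun y hy => ?_
    have h1 := congrArg δ (Subgroup.mem_centralizer_iff.1 hm (δ⁻¹ y) (T.inv _ (Γ.inv_mem hδ) y hy))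
    simpa using h1
  have hm2 : ∀ m ∈ D, ∀ w ∈ W, m * w = w * m := fun m hm w hw =>
    (Subgroup.mem_centralizer_iff.1 hm w hw).symm
  let M : Subgroup P :=
    { carrier := {m | m ∈ D ∧ m * m ∈ W ∧ ∀ g, ⁅m, g⁆ ∈ W}
      one_mem' := ⟨D.one_mem, by simp [W.one_mem], fun g => by simp [W.one_mem]⟩
      mul_mem' := by
        rintro a b ⟨ha, ha2, hac⟩ ⟨hb, hb2, hbc⟩
        refine ⟨D.mul_mem ha hb, ?_, fun g => ?_⟩
        · rw [show a * b * (a * b) = a * a * ⁅a⁻¹, b⁆ * (b * b) by rw [commutatorElement_def]; group]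
          refine W.mul_mem (W.mul_mem ha2 ?_) hb2
          rw [show ⁅a⁻¹, b⁆ = a⁻¹ * ⁅a, b⁆⁻¹ * a⁻¹⁻¹ by simp only [commutatorElement_def]; group]
          exact T.normal.conj_mem _ (W.inv_mem (hac b)) _
        · rw [show ⁅a * b, g⁆ = a * ⁅b, g⁆ * a⁻¹ * ⁅a, g⁆ by simp only [commutatorElement_def]; group]
          exact W.mul_mem (T.normal.conj_mem _ (hbc g) a) (hac g)
      inv_mem' := by
        rintro a ⟨ha, ha2, hac⟩
        refine ⟨D.inv_mem ha, by simpa using W.inv_mem ha2, fun g => ?_⟩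
        rw [show ⁅a⁻¹, g⁆ = a⁻¹ * ⁅a, g⁆⁻¹ * a⁻¹⁻¹ by simp only [commutatorElement_def]; group]
        exact T.normal.conj_mem _ (W.inv_mem (hac g)) _ }
  have hWM : W ≤ M := fun w hw => ⟨T.W_le_centralizer hw, W.mul_mem hw hw, fun g => by
    rw [← commutatorElement_inv]
    exact W.inv_mem (T.comm_mem g hw)⟩
  have hMn : M.Normal := ⟨fun m hm g => by
    have h1 : g * m * g⁻¹ = ⁅m, g⁆⁻¹ * m := by rw [commutatorElement_def]; group
    rw [h1]
    exact M.mul_mem (M.inv_mem (hWM (hm.2.2 g))) hm⟩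
  have hMΓ : ∀ δ ∈ Γ, ∀ m ∈ M, δ m ∈ M := fun δ hδ m hm => ⟨hγD δ hδ m hm.1, by
      rw [← map_mul]; exact T.inv δ hδ _ hm.2.1, fun g => by
      have h1 := T.inv δ hδ _ (hm.2.2 (δ⁻¹ g))
      simpa [map_commutatorElement] using h1⟩
  -- the new subgroup is larger
  obtain ⟨m₀, hm₀, hm₀W⟩ : ∃ m ∈ M, m ∉ W := by
    set π := QuotientGroup.mk' W with hπ
    have hN : (D.map π).Normal := hDn.map π (QuotientGroup.mk'_surjective _)
    have hN0 : D.map π ≠ ⊥ := fun h => hne (le_antisymm (by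
      rwa [Subgroup.map_eq_bot_iff, QuotientGroup.ker_mk'] at h) T.W_le_centralizer)
    haveI := (T.setup.two.to_quotient W).isNilpotent
    obtain ⟨q, hq, hq1⟩ := (Subgroup.bot_or_exists_ne_one _).resolve_left
      (Solvable.inf_center_ne_bot hN0)
    obtain ⟨k, hk⟩ := IsPGroup.iff_orderOf.mp (T.setup.two.to_quotient W) q
    have hk0 : k ≠ 0 := by
      rintro rfl
      exact hq1 (orderOf_eq_one_iff.mp (by simpa using hk))
    set q' := q ^ 2 ^ (k - 1) with hq'
    have ho : orderOf q' = 2 := by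
      rw [hq', orderOf_pow' q (by positivity), hk, Nat.gcd_eq_right (pow_dvd_pow 2 (by omega)),
        Nat.pow_div (by omega) (by norm_num), show k - (k - 1) = 1 by omega, pow_one]
    obtain ⟨⟨m, hm, hme⟩, hc⟩ := Subgroup.pow_mem _ hq (2 ^ (k - 1))
    refine ⟨m, ⟨hm, ?_, fun g => ?_⟩, fun h => ?_⟩
    · rw [← QuotientGroup.eq_one_iff, ← sq]
      show π (m ^ 2) = 1
      rw [map_pow, hme]
      have := pow_orderOf_eq_one q'
      rwa [ho] at this
    · rw [← QuotientGroup.eq_one_iff]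
      show π ⁅m, g⁆ = 1
      rw [map_commutatorElement, hme, commutatorElement_eq_one_iff_mul_comm]
      exact (Subgroup.mem_center_iff.1 hc (π g)).symm
    · have : q' = 1 := hme.symm.trans ((QuotientGroup.eq_one_iff m).2 h)
      rw [this, orderOf_one] at ho
      omega
  -- it is not abelian
  have hMc : ¬ IsMulCommutative ↥M := fun h => hm₀W (T.max M hMn h hMΓ hWM hm₀)
  obtain ⟨m, hm, n, hn', hmn⟩ : ∃ m ∈ M, ∃ n ∈ M, m * n ≠ n * m := by
    by_contra h
    push Not at h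
    exact hMc ⟨⟨fun a b => Subtype.ext (h a a.2 b b.2)⟩⟩
  set S2 := powers W T.comm 2 with hS2
  have hz : ∀ a ∈ M, ∀ b ∈ M, ⁅a, b⁆ ∈ omega W T.comm := by
    intro a ha b hb
    refine ⟨ha.2.2 b, ?_⟩
    have h1 : a * ⁅a, b⁆ = ⁅a, b⁆ * a := hm2 a ha.1 _ (ha.2.2 b)
    have h2 : ⁅a * a, b⁆ = 1 := commutatorElement_eq_one_iff_mul_comm.2 (hm2 b hb.1 _ ha.2.1).symm
    rw [show ⁅a * a, b⁆ = a * ⁅a, b⁆ * a⁻¹ * ⁅a, b⁆ by simp only [commutatorElement_def]; group,
      h1, mul_inv_cancel_right, ← sq] at h2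
    exact h2
  have hker : ∀ a ∈ M, a * a ∈ S2 → a ∈ W := by
    intro a ha ⟨v, hv, hve⟩
    by_contra haW
    have hav : a * v⁻¹ ∈ M := M.mul_mem ha (hWM (W.inv_mem hv))
    have hc : Commute a v⁻¹ := hm2 a ha.1 _ (W.inv_mem hv)
    have ht2 : (a * v⁻¹) ^ 2 = 1 := by
      rw [hc.mul_pow, sq a, ← hve, inv_pow, mul_inv_cancel]
    refine T.no_invol ht2 (fun h => haW (by simpa using W.mul_mem h hv)) fun g => ?_
    have hcW : ⁅g, a * v⁻¹⁆ ∈ W := by
      rw [← commutatorElement_inv]; exact W.inv_mem (hav.2.2 g)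
    refine ⟨hcW, ?_⟩
    have h1 : (g * (a * v⁻¹) * g⁻¹) ^ 2 = 1 := by rw [conj_pow, ht2, mul_one, mul_inv_cancel]
    rw [show g * (a * v⁻¹) * g⁻¹ = ⁅g, a * v⁻¹⁆ * (a * v⁻¹) by rw [commutatorElement_def]; group,
      (show Commute ⁅g, a * v⁻¹⁆ (a * v⁻¹) from (hm2 _ hav.1 _ hcW).symm).mul_pow, ht2, mul_one] at h1
    exact h1
  have hsqmul : ∀ a ∈ M, ∀ b ∈ M, a * b * (a * b) * (a * a * (b * b))⁻¹ ∈ S2 := by
    intro a ha b hb
    have e : a * b * (a * b) * (a * a * (b * b))⁻¹ = a * ⁅b, a⁆ * a⁻¹ := by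
      rw [commutatorElement_def]; group
    rw [e, Subgroup.mem_center_iff.1 (T.omega_central (hz b hb a ha)) a, mul_inv_cancel_right]
    exact T.omega_le_sq (hz b hb a ha)
  -- generation
  set H := Subgroup.closure ((W : Set P) ∪ {m, n}) with hH
  have hHM : H ≤ M := by
    rw [hH, Subgroup.closure_le]
    rintro x (hx | hx | hx)
    · exact hWM hx
    · exact hx ▸ hm
    · exact (Set.mem_singleton_iff.1 hx) ▸ hn'
  let V : Subgroup P :=
    { carrier := {w | w ∈ W ∧ ∃ a ∈ H, a * a * w⁻¹ ∈ S2}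
      one_mem' := ⟨W.one_mem, 1, H.one_mem, by simp [S2.one_mem]⟩
      mul_mem' := by
        rintro w w' ⟨hw, a, ha, hae⟩ ⟨hw', b, hb, hbe⟩
        refine ⟨W.mul_mem hw hw', a * b, H.mul_mem ha hb, ?_⟩
        have h1 := S2.mul_mem (hsqmul a (hHM ha) b (hHM hb)) (S2.mul_mem hae hbe)
        have e : a * a * (b * b) * (w * w')⁻¹ = a * a * w⁻¹ * (b * b * w'⁻¹) := by
          have c1 : w'⁻¹ * w⁻¹ = w⁻¹ * w'⁻¹ := T.cw _ (W.inv_mem hw') _ (W.inv_mem hw)
          have c2 : b * b * w⁻¹ = w⁻¹ * (b * b) := T.cw _ (hHM hb).2.1 _ (W.inv_mem hw)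
          rw [mul_inv_rev, c1]
          calc a * a * (b * b) * (w⁻¹ * w'⁻¹) = a * a * (b * b * w⁻¹) * w'⁻¹ := by group
            _ = a * a * (w⁻¹ * (b * b)) * w'⁻¹ := by rw [c2]
            _ = _ := by group
        rw [← e] at h1
        simpa [mul_assoc] using h1
      inv_mem' := by
        rintro w ⟨hw, a, ha, hae⟩
        refine ⟨W.inv_mem hw, a⁻¹, H.inv_mem ha, ?_⟩
        have h1 := S2.inv_mem hae
        rw [mul_inv_rev, inv_inv, T.cw w hw _ (W.inv_mem (hHM ha).2.1)] at h1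
        rw [inv_inv]
        simpa [mul_inv_rev] using h1 }
  have hmn1 : m⁻¹ * n ∈ M := M.mul_mem (M.inv_mem hm) hn'
  have hVW : V = W := by
    refine T.four (fun w hw => hw.1) (fun s hs => ⟨T.sq_le hs, 1, H.one_mem, ?_⟩)
      (a := m * m) (b := n * n) ⟨hm.2.1, m, Subgroup.subset_closure (Or.inr (by simp)), by simp [S2.one_mem]⟩
      ⟨hn'.2.1, n, Subgroup.subset_closure (Or.inr (by simp)), by simp [S2.one_mem]⟩ ?_ ?_ ?_
    · simpa using hs
    · intro h; exact hmn (hm2 n hn'.1 m (hker m hm h)).symm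
    · intro h; exact hmn (hm2 m hm.1 n (hker n hn' h))
    · intro h
      have h1 : m⁻¹ * n ∈ W := hker _ hmn1 (by
        have h2 := S2.mul_mem (hsqmul m⁻¹ (M.inv_mem hm) n hn') h
        rw [show m⁻¹ * n * (m⁻¹ * n) * (m⁻¹ * m⁻¹ * (n * n))⁻¹ * ((m * m)⁻¹ * (n * n)) =
          m⁻¹ * n * (m⁻¹ * n) by group] at h2
        exact h2)
      refine hmn ?_
      have h3 := hm2 m hm.1 _ h1
      rw [mul_inv_cancel_left] at h3
      calc m * n = m * (m⁻¹ * n * m) := by rw [← h3]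
        _ = n * m := by group
  have hMH : M ≤ H := by
    intro k hk
    obtain ⟨-, a, ha, hae⟩ : k * k ∈ V := hVW.ge hk.2.1
    have hka : k * a⁻¹ ∈ W := hker _ (M.mul_mem hk (M.inv_mem (hHM ha))) (by
      have h2 := S2.mul_mem (hsqmul k hk a⁻¹ (M.inv_mem (hHM ha))) (S2.inv_mem hae)
      rw [show k * a⁻¹ * (k * a⁻¹) * (k * k * (a⁻¹ * a⁻¹))⁻¹ * (a * a * (k * k)⁻¹)⁻¹ =
        k * a⁻¹ * (k * a⁻¹) by group] at h2
      exact h2)
    simpa using H.mul_mem (Subgroup.subset_closure (Or.inl hka) : k * a⁻¹ ∈ H) ha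
  -- all commutators lie in a group of order two
  set U := Subgroup.zpowers ⁅m, n⁆ with hU
  have hUc : U ≤ Subgroup.center P := Subgroup.zpowers_le.2 (T.omega_central (hz m hm n hn'))
  have key : ∀ a ∈ M, (∀ x ∈ ({m, n} : Set P), ⁅x, a⁆ ∈ U) → ∀ b ∈ M, ⁅b, a⁆ ∈ U := by
    intro a ha hgen b hb
    have hb' := hMH hb
    clear hb
    induction hb' using Subgroup.closure_induction with
    | mem x hx =>
      rcases hx with hx | hx
      · rw [commutatorElement_eq_one_iff_mul_comm.2 (hm2 a ha.1 x hx).symm]; exact U.one_mem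
      · exact hgen x hx
    | one => simp [U.one_mem]
    | mul x y _ _ h1 h2 =>
      rw [show ⁅x * y, a⁆ = x * ⁅y, a⁆ * x⁻¹ * ⁅x, a⁆ by simp only [commutatorElement_def]; group,
        Subgroup.mem_center_iff.1 (hUc h2) x, mul_inv_cancel_right]
      exact U.mul_mem h2 h1
    | inv x _ h1 =>
      rw [show ⁅x⁻¹, a⁆ = x⁻¹ * ⁅x, a⁆⁻¹ * x⁻¹⁻¹ by simp only [commutatorElement_def]; group,
        Subgroup.mem_center_iff.1 (hUc (U.inv_mem h1)) x⁻¹, mul_inv_cancel_right]
      exact U.inv_mem h1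
  have hall : ∀ a ∈ M, ∀ b ∈ M, ⁅b, a⁆ ∈ U := fun a ha => key a ha fun x hx => by
    have hxM : x ∈ M := by rcases hx with rfl | rfl <;> assumption
    rw [← commutatorElement_inv]
    refine U.inv_mem (key x hxM (fun y hy => ?_) a ha)
    rcases hx with rfl | rfl <;> rcases hy with rfl | rfl
    · simp [U.one_mem]
    · rw [← commutatorElement_inv]; exact U.inv_mem (Subgroup.mem_zpowers _)
    · exact Subgroup.mem_zpowers _
    · simp [U.one_mem]
  have hfix := hall _ (hMΓ γ T.rot.mem n hn') _ (hMΓ γ T.rot.mem m hm)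
  rw [← map_commutatorElement] at hfix
  have hU2 : U = omega W T.comm := T.rot.eq_of_inv (Subgroup.zpowers_le.2 (hz m hm n hn'))
    (fun h => hmn (commutatorElement_eq_one_iff_mul_comm.1 (Subgroup.zpowers_eq_bot.1 h)))
    fun u hu => by
      obtain ⟨i, rfl⟩ := Subgroup.mem_zpowers_iff.1 hu
      rw [map_zpow]
      exact U.zpow_mem hfix i
  have hc4 := T.rot.card
  rw [← hU2, hU, Nat.card_zpowers] at hc4
  have := orderOf_le_of_pow_eq_one (x := ⁅m, n⁆) (n := 2) (by norm_num) (hz m hm n hn').2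
  omega

end

end Top

end Cfsg.Agent.Lib.ScnTwo
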