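import Cfsg.Agent.Lib.MinNC8.Special
import Cfsg.Agent.Lib.PLocal.PGroupBasic

/-!
# Odd automorphism groups of 2-groups without normal elementary abelian subgroups of order 8

The standing hypothesis and its first consequences.
-/

set_option autoImplicit false

open scoped commutatorElement

namespace Cfsg.Agent.Lib.ScnTwo

universe u

/-- A 2-group generated by the commutators with an odd order automorphism group, in which every
normal abelian subgroup has at most 4 elements of order dividing 2. -/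
structure Setup {P : Type u} [Group P] (Γ : Subgroup (MulAut P)) : Prop where
  two : IsPGroup 2 P
  odd : Odd (Nat.card ↥Γ)
  gen : Subgroup.closure {y | ∃ γ ∈ Γ, ∃ x : P, γ x * x⁻¹ = y} = ⊤
  rank : ∀ B : Subgroup P, B.Normal → IsMulCommutative ↥B →
    ∀ E : Subgroup P, E ≤ B → (∀ e ∈ E, e ^ 2 = 1) → Nat.card ↥E ≤ 4

variable {P : Type u} [Group P] [Finite P] {Γ : Subgroup (MulAut P)}

/-- The absence of self-centralizing normal abelian subgroups with a subgroup `E8`. -/
theorem rank_of_no_scn (hP : IsPGroup 2 P)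
    (hscn : ¬ ∃ A : Subgroup P, A.Normal ∧ Subgroup.centralizer (A : Set P) = A ∧
      ∃ E : Subgroup P, E ≤ A ∧ Cfsg.IsElementaryAbelian 2 E ∧ Nat.card E = 8)
    (B : Subgroup P) (hBn : B.Normal) (hBc : IsMulCommutative ↥B) (E : Subgroup P) (hEB : E ≤ B)
    (hE : ∀ e ∈ E, e ^ 2 = 1) : Nat.card ↥E ≤ 4 := by
  by_contra hlt
  haveI : Fact (Nat.Prime 2) := ⟨Nat.prime_two⟩
  obtain ⟨k, hk⟩ := IsPGroup.iff_card.mp (hP.to_subgroup E)
  have hk3 : 3 ≤ k := by
    by_contra h'
    have := Nat.pow_le_pow_right (show 0 < 2 by norm_num) (show k ≤ 2 by omega)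
    omega
  obtain ⟨E', hE'⟩ := Sylow.exists_subgroup_card_pow_prime 2 (G := ↥E) (n := 3)
    (hk ▸ pow_dvd_pow 2 hk3)
  obtain ⟨A, hBA, ⟨hAn, hAc⟩, hmax⟩ := Set.Finite.exists_le_maximal
    (Set.toFinite {A : Subgroup P | A.Normal ∧ IsMulCommutative A}) (show B ∈ _ from ⟨hBn, hBc⟩)
  haveI := hAn
  have hle : E'.map E.subtype ≤ A := (Subgroup.map_subtype_le E').trans (hEB.trans hBA)
  refine hscn ⟨A, hAn, le_antisymm
    (PLocal.centralizer_le_of_max hP A hAc fun D hD hDc hAD => le_antisymm (hmax ⟨hD, hDc⟩ hAD) hAD)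
    (Subgroup.le_centralizer_iff_isMulCommutative.mpr hAc), E'.map E.subtype, hle,
    ⟨⟨⟨fun x y => Subtype.ext (congrArg Subtype.val (hAc.is_comm.comm ⟨x.1, hle x.2⟩ ⟨y.1, hle y.2⟩) :)⟩⟩,
      fun a ha => hE a (Subgroup.map_subtype_le E' ha)⟩, ?_⟩
  rw [Subgroup.card_map_of_injective E.subtype_injective, hE']
  norm_num

/-- The elements of order dividing 2 in an abelian subgroup. -/
def omega (W : Subgroup P) (hW : IsMulCommutative ↥W) : Subgroup P where
  carrier := {w | w ∈ W ∧ w ^ 2 = 1}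
  one_mem' := ⟨W.one_mem, one_pow 2⟩
  mul_mem' := fun {a b} ha hb => ⟨W.mul_mem ha.1 hb.1, by
    rw [(show Commute a b from congrArg Subtype.val (hW.is_comm.comm ⟨a, ha.1⟩ ⟨b, hb.1⟩)).mul_pow,
      ha.2, hb.2, one_mul]⟩
  inv_mem' := fun {a} ha => ⟨W.inv_mem ha.1, by rw [inv_pow, ha.2, inv_one]⟩

/-- An odd automorphism fixing the elements of order 2 of an invariant abelian 2-subgroup fixes
the subgroup. -/
theorem fix_of_omega (hP : IsPGroup 2 P) {γ : MulAut P} (hγ : Odd (orderOf γ)) {W : Subgroup P}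
    (hW : IsMulCommutative ↥W) (hinv : ∀ w ∈ W, γ w ∈ W)
    (h : ∀ w ∈ W, w ^ 2 = 1 → γ w = w) : ∀ w ∈ W, γ w = w := by
  have key : ∀ n, ∀ w ∈ W, orderOf w ≤ n → γ w = w := by
    intro n
    induction n with
    | zero => intro w _ hn; exact absurd (orderOf_pos w) (by omega)
    | succ n ih =>
      intro w hw hn
      by_cases h2 : w ^ 2 = 1
      · exact h w hw h2
      have hsq : γ (w ^ 2) = w ^ 2 := by
        refine ih _ (W.pow_mem hw 2) ?_
        obtain ⟨k, hk⟩ := IsPGroup.iff_orderOf.mp hP w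
        have hk0 : k ≠ 0 := by
          rintro rfl
          rw [pow_zero, orderOf_eq_one_iff] at hk
          exact h2 (by rw [hk, one_pow])
        rw [orderOf_pow' w two_ne_zero, hk, Nat.gcd_eq_right (dvd_pow_self 2 hk0)]
        have := hk ▸ hn
        have hpos : 0 < 2 ^ k := Nat.two_pow_pos k
        omega
      have hcomm : Commute w⁻¹ (γ w) := congrArg Subtype.val
        (hW.is_comm.comm ⟨w⁻¹, W.inv_mem hw⟩ ⟨γ w, hinv w hw⟩)
      refine MinNC8.fix_of_series hP hγ (mul_inv_cancel_left w (γ w)).symm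
        (h _ (W.mul_mem (W.inv_mem hw) (hinv w hw)) ?_)
      rw [hcomm.mul_pow, inv_pow, ← map_pow, hsq, inv_mul_cancel]
  exact fun w hw => key _ w hw le_rfl

/-- A normal subgroup fixed by `Γ` is central. -/
theorem central_of_fixed
    (hgen : Subgroup.closure {y | ∃ γ ∈ Γ, ∃ x : P, γ x * x⁻¹ = y} = ⊤) {C : Subgroup P}
    (hCn : C.Normal) (hfix : ∀ γ ∈ Γ, ∀ c ∈ C, γ c = c) : C ≤ Subgroup.center P := by
  have hle : (⊤ : Subgroup P) ≤ Subgroup.centralizer (C : Set P) := by
    rw [← hgen, Subgroup.closure_le]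
    rintro _ ⟨γ, hγ, x, rfl⟩
    rw [SetLike.mem_coe, Subgroup.mem_centralizer_iff]
    intro c hc
    have h1 : γ c = c := hfix γ hγ c hc
    have h2 : γ (x⁻¹ * c * x) = x⁻¹ * c * x :=
      hfix γ hγ _ (by simpa using hCn.conj_mem c hc x⁻¹)
    rw [map_mul, map_mul, map_inv, h1] at h2
    calc c * (γ x * x⁻¹) = γ x * ((γ x)⁻¹ * c * γ x) * x⁻¹ := by group
      _ = γ x * (x⁻¹ * c * x) * x⁻¹ := by rw [h2]
      _ = γ x * x⁻¹ * c := by group
  intro c hc
  rw [Subgroup.mem_center_iff]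
  exact fun g => (Subgroup.mem_centralizer_iff.mp (hle (Subgroup.mem_top g)) c hc).symm

/-- A fixed point free automorphism of a four-group: the data of a non-central invariant subgroup. -/
structure Rot (Γ : Subgroup (MulAut P)) (γ : MulAut P) (Z : Subgroup P) : Prop where
  mem : γ ∈ Γ
  oddOrder : Odd (orderOf γ)
  card : Nat.card ↥Z = 4
  sq : ∀ z ∈ Z, z ^ 2 = 1
  inv : ∀ δ ∈ Γ, ∀ z ∈ Z, δ z ∈ Z
  free : ∀ z ∈ Z, γ z = z → z = 1

/-- A nontrivial `γ`-invariant subgroup of the four-group is all of it. -/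
theorem Rot.eq_of_inv {γ : MulAut P} {Z : Subgroup P} (h : Rot Γ γ Z) {U : Subgroup P} (hU : U ≤ Z)
    (hne : U ≠ ⊥) (hγU : ∀ u ∈ U, γ u ∈ U) : U = Z := by
  refine Subgroup.eq_of_le_of_card_ge hU ?_
  obtain ⟨u, hu, hu1⟩ := (Subgroup.bot_or_exists_ne_one U).resolve_left hne
  by_contra hlt
  rw [h.card, not_le] at hlt
  classical
  haveI : Fintype ↥U := Fintype.ofFinite _
  have hsub : ({1, ⟨u, hu⟩, ⟨γ u, hγU u hu⟩} : Finset ↥U).card ≤ Fintype.card ↥U := Finset.card_le_univ _
  have hγu1 : γ u ≠ 1 := fun e => hu1 (γ.injective (e.trans (map_one γ).symm))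
  rw [Finset.card_insert_of_notMem (by
      simp only [Finset.mem_insert, Finset.mem_singleton, Subtype.ext_iff, OneMemClass.coe_one]
      rintro (e | e)
      · exact hu1 e.symm
      · exact hγu1 e.symm),
    Finset.card_pair (fun e => hu1 (h.free u (hU hu) (congrArg Subtype.val e).symm))] at hsub
  rw [← Nat.card_eq_fintype_card] at hsub
  obtain ⟨k, hk⟩ : ∃ k, Nat.card ↥Z = Nat.card ↥U * k := Subgroup.card_dvd_of_le hU
  rw [h.card] at hk
  have : Nat.card ↥U = 3 := by omega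
  rw [this] at hk
  omega

/-- An invariant abelian normal subgroup not fixed by `Γ` has a four-group of elements of order
dividing 2, with a fixed point free element of `Γ`. -/
theorem Setup.exists_rot (S : Setup Γ) {W : Subgroup P} (hWn : W.Normal) (hW : IsMulCommutative ↥W)
    (hinv : ∀ δ ∈ Γ, ∀ w ∈ W, δ w ∈ W) (hnf : ¬ ∀ δ ∈ Γ, ∀ w ∈ W, δ w = w) :
    ∃ γ, Rot Γ γ (omega W hW) := by
  classical
  push Not at hnf
  obtain ⟨γ, hγ, hγW⟩ := hnf
  have hodd := MinNC8.odd_orderOf S.odd hγ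
  have hinvZ : ∀ δ ∈ Γ, ∀ z ∈ omega W hW, δ z ∈ omega W hW := fun δ hδ z hz =>
    ⟨hinv δ hδ z hz.1, by rw [← map_pow, hz.2, map_one]⟩
  obtain ⟨a, haW, ha2, hane⟩ : ∃ a ∈ W, a ^ 2 = 1 ∧ γ a ≠ a := by
    by_contra hno
    push Not at hno
    obtain ⟨w, hw, hne⟩ := hγW
    exact hne (fix_of_omega S.two hodd hW (hinv γ hγ) hno w hw)
  set Z := omega W hW with hZ
  have haZ : a ∈ Z := ⟨haW, ha2⟩
  have hfree : ∀ z ∈ Z, γ z = z → z = 1 := by
    intro z hz hfix
    by_contra hz1
    -- `z`, `a`, `γ a` and the products stay in a group of order at most 4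
    have hle := S.rank W hWn hW Z (fun x hx => hx.1) fun x hx => hx.2
    haveI : Fintype ↥Z := Fintype.ofFinite _
    have ha1 : a ≠ 1 := fun e => hane (by rw [e, map_one])
    have hza : z ≠ a := fun e => hane (e ▸ hfix)
    have hzg : z ≠ γ a := fun e => hane (γ.injective (by rw [← e, hfix]) : γ a = a)
    have hγa1 : γ a ≠ 1 := fun e => ha1 (γ.injective (e.trans (map_one γ).symm))
    have hmul : γ a = a * z ∨ 4 < Nat.card ↥Z := by
      by_cases e : γ a = a * z
      · exact Or.inl e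
      refine Or.inr ?_
      have hsub : ({1, ⟨z, hz⟩, ⟨a, haZ⟩, ⟨γ a, hinvZ γ hγ a haZ⟩, ⟨a * z, Z.mul_mem haZ hz⟩} :
          Finset ↥Z).card ≤ Fintype.card ↥Z := Finset.card_le_univ _
      have n1 : a * z ≠ 1 := fun e' => hza (by
        have : z = a⁻¹ := (eq_inv_iff_mul_eq_one).2 (by
          rw [← e']; exact (congrArg Subtype.val (hW.is_comm.comm ⟨z, hz.1⟩ ⟨a, haW⟩) :))
        rw [this, inv_eq_iff_mul_eq_one, ← sq, ha2])
      rw [Finset.card_insert_of_notMem (by
          simp [Finset.mem_insert, Finset.mem_singleton, Subtype.ext_iff, Ne.symm hz1, Ne.symm ha1,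
            Ne.symm hγa1, Ne.symm n1]),
        Finset.card_insert_of_notMem (by
          simp [Finset.mem_insert, Finset.mem_singleton, Subtype.ext_iff, hza, hzg, ha1]),
        Finset.card_insert_of_notMem (by
          simp [Finset.mem_insert, Finset.mem_singleton, Subtype.ext_iff, Ne.symm hane, hz1]),
        Finset.card_pair (fun e' => e (congrArg Subtype.val e'))] at hsub
      rw [Nat.card_eq_fintype_card]
      omega
    rcases hmul with e | e
    · exact hane (MinNC8.fix_of_series S.two hodd e hfix)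
    · omega
  refine ⟨γ, hγ, hodd, ?_, fun z hz => hz.2, hinvZ, hfree⟩
  have hle := S.rank W hWn hW Z (fun x hx => hx.1) fun x hx => hx.2
  obtain ⟨k, hk⟩ := IsPGroup.iff_card.mp (S.two.to_subgroup Z)
  haveI : Fintype ↥Z := Fintype.ofFinite _
  have ha1 : a ≠ 1 := fun e => hane (by rw [e, map_one])
  have hsub : ({1, ⟨a, haZ⟩, ⟨γ a, hinvZ γ hγ a haZ⟩} : Finset ↥Z).card ≤ Fintype.card ↥Z :=
    Finset.card_le_univ _
  rw [Finset.card_insert_of_notMem (by
      simp only [Finset.mem_insert, Finset.mem_singleton, Subtype.ext_iff, OneMemClass.coe_one]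
      rintro (e | e)
      · exact ha1 e.symm
      · exact ha1 (γ.injective (e.symm.trans (map_one γ).symm))),
    Finset.card_pair (fun e => hane (congrArg Subtype.val e).symm), ← Nat.card_eq_fintype_card] at hsub
  rw [hk] at hsub hle ⊢
  rcases k with _ | _ | _ | k
  · simp at hsub
  · simp at hsub
  · rfl
  · rw [pow_add] at hle
    have := Nat.one_le_two_pow (n := k)
    omega

end Cfsg.Agent.Lib.ScnTwo
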