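import Cfsg.Agent.Lib.ScnTwo.Squares

/-!
# The shape of the group in the presence of a non-central subgroup
-/

set_option autoImplicit false

open scoped commutatorElement

namespace Cfsg.Agent.Lib.ScnTwo

universe u

variable {P : Type u} [Group P] [Finite P] {Γ : Subgroup (MulAut P)} {W : Subgroup P} {γ : MulAut P}

namespace Top

section

variable (T : Top Γ W γ)

include T

theorem exists_not_mem : ∃ x : P, x ∉ W := by
  by_contra h
  push Not at h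
  exact T.noncentral fun w hw => Subgroup.mem_center_iff.2 fun g => T.cw g (h g) w hw

theorem comm_in_of_sq (hA : ∀ x : P, x * x ∈ W) (a b : P) : ⁅a, b⁆ ∈ W := by
  rw [show ⁅a, b⁆ = a * b * (a * b) * (b⁻¹ * (a * a)⁻¹ * b⁻¹⁻¹) * (b * b)⁻¹ by
    rw [commutatorElement_def]; group]
  exact W.mul_mem (W.mul_mem (hA _) (T.normal.conj_mem _ (W.inv_mem (hA a)) _)) (W.inv_mem (hA b))

/-- A map with one moved class contradicts the translation rule. -/
theorem eval_false {N : Subgroup P} (hN : ∀ u ∈ N, γ u ∈ N) (hN' : ∀ u, γ u ∈ N → u ∈ N)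
    (hNW : N ≤ W) (hfin : ∀ i ∈ powers W T.comm 2, i * γ i ∈ N → i ∈ N) {x : P}
    (hS : ∀ s ∈ powers W T.comm 2, ⁅x, s⁆ ∈ N)
    (hsum : ∀ w ∈ W, ⁅x, w⁆ * ⁅γ x, w⁆ * ⁅γ (γ x), w⁆ ∈ N) {k : P} (hk : k ∈ W)
    (hkS : k ∉ powers W T.comm 2) (hfk : ⁅x, k⁆ ∈ N) {w₀ : P} (hw₀ : w₀ ∈ W)
    (hfw₀ : ⁅x, w₀⁆ ∉ N) : False := by
  set S2 := powers W T.comm 2 with hS2
  let K : Subgroup P :=
    { carrier := {w | w ∈ W ∧ ⁅x, w⁆ ∈ N}
      one_mem' := ⟨W.one_mem, by simp [N.one_mem]⟩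
      mul_mem' := fun {a b} ha hb => ⟨W.mul_mem ha.1 hb.1, by rw [T.f_mul x ha.1 hb.1]; exact N.mul_mem ha.2 hb.2⟩
      inv_mem' := fun {a} ha => ⟨W.inv_mem ha.1, by rw [T.f_inv x ha.1]; exact N.inv_mem ha.2⟩ }
  have hKW : K ≤ W := fun w hw => hw.1
  have hSK : S2 ≤ K := fun s hs => ⟨T.sq_le hs, hS s hs⟩
  have hKne : K ≠ W := fun e => hfw₀ (e.ge hw₀).2
  have hidx : (K.subgroupOf W).index = 2 := by
    have hmul := Subgroup.relIndex_mul_relIndex S2 K W hSK hKW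
    rw [T.relIndex_sq] at hmul
    have h1 : S2.relIndex K ≠ 1 := fun h => hkS (Subgroup.relIndex_eq_one.1 h ⟨hk, hfk⟩)
    have h2 : K.relIndex W ≠ 1 := fun h => hKne (le_antisymm hKW (Subgroup.relIndex_eq_one.1 h))
    change K.relIndex W = 2
    have h3 : S2.relIndex K ∣ 4 := Dvd.intro _ hmul
    have h4 := Nat.le_of_dvd (by norm_num) h3
    interval_cases hr : S2.relIndex K <;> omega
  have hsame : ∀ w ∈ W, w ∉ K → ⁅x, w⁆ * ⁅x, w₀⁆⁻¹ ∈ N := by
    intro w hw hwK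
    have h1 := Subgroup.mul_mem_iff_of_index_two hidx (a := (⟨w₀, hw₀⟩ : ↥W)⁻¹) (b := ⟨w, hw⟩)
    simp only [Subgroup.mem_subgroupOf, inv_mem_iff] at h1
    have h2 : w₀⁻¹ * w ∈ K := h1.2 ⟨fun h => absurd h.2 hfw₀, fun h => absurd h hwK⟩
    have h3 := h2.2
    rw [T.f_mul x (W.inv_mem hw₀) hw, T.f_inv x hw₀,
      T.cw _ (W.inv_mem (T.comm_mem x hw₀)) _ (T.comm_mem x hw)] at h3
    exact h3
  have hout : ∀ a, a ∈ W → γ a = k ∨ γ (γ a) = k → a ∉ K := by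
    intro a ha hak haK
    have haS : a ∉ S2 := fun h => by
      rcases hak with e | e
      · exact hkS (e ▸ T.powers_inv T.rot.mem h)
      · exact hkS (e ▸ T.powers_inv T.rot.mem (T.powers_inv T.rot.mem h))
    refine hKne (T.four hKW hSK haK (b := k) ⟨hk, hfk⟩ haS hkS fun h => haS ?_)
    rcases hak with e | e
    · exact T.free_sq ha (e ▸ h)
    · exact T.free_sq2 ha (e ▸ h)
  set a₁ := γ⁻¹ k with ha₁
  set a₂ := γ⁻¹ (γ⁻¹ k) with ha₂
  have hγ : ∀ v, γ (γ⁻¹ v) = v := fun v => by rw [← MulAut.mul_apply, mul_inv_cancel]; rfl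
  have ha₁W : a₁ ∈ W := T.inv _ (Γ.inv_mem T.rot.mem) k hk
  have ha₂W : a₂ ∈ W := T.inv _ (Γ.inv_mem T.rot.mem) _ ha₁W
  have r1 : ⁅γ x, k⁆ = γ ⁅x, a₁⁆ := by rw [map_commutatorElement, ha₁, hγ]
  have r2 : ⁅γ (γ x), k⁆ = γ (γ ⁅x, a₂⁆) := by
    rw [map_commutatorElement, map_commutatorElement, ha₂, hγ, hγ]
  have h1 := hsame a₁ ha₁W (hout a₁ ha₁W (Or.inl (by rw [ha₁, hγ])))
  have h2 := hsame a₂ ha₂W (hout a₂ ha₂W (Or.inr (by rw [ha₂, hγ, hγ])))
  have hs := hsum k hk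
  set i := ⁅x, w₀⁆ with hidef
  have hiW : i ∈ W := T.comm_mem x hw₀
  have h3 : γ i * γ (γ i) ∈ N := by
    have e1 : ⁅γ x, k⁆ * ⁅γ (γ x), k⁆ ∈ N := by
      have := N.mul_mem (N.inv_mem hfk) hs
      rwa [mul_assoc, inv_mul_cancel_left] at this
    rw [r1, r2] at e1
    have e2 : γ (⁅x, a₁⁆ * i⁻¹) ∈ N := hN _ h1
    have e3 : γ (γ (⁅x, a₂⁆ * i⁻¹)) ∈ N := hN _ (hN _ h2)
    have c1 : γ (γ ⁅x, a₂⁆) ∈ W := T.gw (T.gw (T.comm_mem x ha₂W))
    have c2 : γ i ∈ W := T.gw hiW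
    have e : γ i * γ (γ i) = (γ (⁅x, a₁⁆ * i⁻¹))⁻¹ * (γ ⁅x, a₁⁆ * γ (γ ⁅x, a₂⁆)) *
        (γ (γ (⁅x, a₂⁆ * i⁻¹)))⁻¹ := by
      simp only [map_mul, map_inv, mul_inv_rev, inv_inv]
      calc γ i * γ (γ i) = γ i * γ (γ ⁅x, a₂⁆) * (γ (γ i) * (γ (γ ⁅x, a₂⁆))⁻¹) := by
            rw [T.cw _ (T.gw (T.gw hiW)) _ (W.inv_mem c1)]; group
        _ = _ := by group
    rw [e]
    exact N.mul_mem (N.mul_mem (N.inv_mem e2) e1) (N.inv_mem e3)
  rw [← map_mul] at h3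
  exact hfw₀ (hfin i (T.sq_in x hw₀) (hN' _ h3))

theorem mem_center_of_omega {z : P} (hz : z ∈ omega W T.comm) (g : P) : g * z = z * g :=
  Subgroup.mem_center_iff.1 (T.omega_central hz) g

/-- An element acting deeply, when the fourth powers are nontrivial. -/
theorem deep (h4 : powers W T.comm 4 ≠ ⊥) : ∃ x, x ∉ W ∧ ∀ w ∈ W, ⁅x, w⁆ ∈ powers W T.comm 4 := by
  set S2 := powers W T.comm 2 with hS2
  set S4 := powers W T.comm 4 with hS4
  have hsq : ∀ x : P, ∀ w ∈ W, ⁅x * x, w⁆ = ⁅x, ⁅x, w⁆⁆ * (⁅x, w⁆ * ⁅x, w⁆) := fun x w hw => by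
    rw [T.f_left x x hw, mul_assoc]
  by_cases hA : ∀ x : P, x * x ∈ W
  swap
  · push Not at hA
    obtain ⟨x, hx⟩ := hA
    refine ⟨x * x, hx, fun w hw => ?_⟩
    rw [hsq x w hw]
    exact S4.mul_mem (T.f_sq_mem x (T.sq_in x hw)) (T.sq_sq_mem (T.sq_in x hw))
  obtain ⟨x, hx⟩ := T.exists_not_mem
  refine ⟨x, hx, fun w hw => ?_⟩
  by_contra hne
  have hX := T.comm_in_of_sq hA
  have hadd : ∀ a b : P, ∀ v ∈ W, ⁅a * b, v⁆ * (⁅a, v⁆ * ⁅b, v⁆)⁻¹ ∈ S4 := fun a b v hv => by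
    rw [T.f_left a b hv, T.cw ⁅a, v⁆ (T.comm_mem a hv) ⁅b, v⁆ (T.comm_mem b hv)]
    rw [show ⁅a, ⁅b, v⁆⁆ * ⁅b, v⁆ * ⁅a, v⁆ * (⁅b, v⁆ * ⁅a, v⁆)⁻¹ = ⁅a, ⁅b, v⁆⁆ by group]
    exact T.f_sq_mem a (T.sq_in b hv)
  have hsum : ∀ v ∈ W, ⁅x, v⁆ * ⁅γ x, v⁆ * ⁅γ (γ x), v⁆ ∈ S4 := by
    intro v hv
    have h0 : ⁅x * γ x * γ (γ x), v⁆ = 1 :=
      commutatorElement_eq_one_iff_mul_comm.2 (T.cw _ (T.three_mem hX x) v hv)
    have h1 := hadd (x * γ x) (γ (γ x)) v hv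
    rw [h0, one_mul, S4.inv_mem_iff] at h1
    have h2 := S4.mul_mem (S4.inv_mem (hadd x (γ x) v hv)) h1
    rw [mul_inv_rev, inv_inv] at h2
    rwa [show ⁅x, v⁆ * ⁅γ x, v⁆ * ⁅x * γ x, v⁆⁻¹ * (⁅x * γ x, v⁆ * ⁅γ (γ x), v⁆) =
      ⁅x, v⁆ * ⁅γ x, v⁆ * ⁅γ (γ x), v⁆ by group] at h2
  have hidem : ∀ v ∈ W, ∃ r ∈ W, ⁅x, v⁆ = r ^ 2 ∧ ⁅x, r⁆ * ⁅x, v⁆⁻¹ ∈ S4 := by
    intro v hv
    obtain ⟨r, hr, e⟩ := T.sq_in x hv
    refine ⟨r, hr, e.symm, ?_⟩
    have h0 : ⁅x * x, v⁆ = 1 := commutatorElement_eq_one_iff_mul_comm.2 (T.cw _ (hA x) v hv)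
    rw [hsq x v hv, ← e, T.f_pow x hr] at h0
    have hz : ⁅x, r⁆ * r ^ 2 ∈ omega W T.comm := ⟨W.mul_mem (T.comm_mem x hr) (W.pow_mem hr 2), by
      rw [(show Commute ⁅x, r⁆ (r ^ 2) from T.cw _ (T.comm_mem x hr) _ (W.pow_mem hr 2)).mul_pow,
        sq (r ^ 2)]
      exact h0⟩
    have h5 := S4.mul_mem (T.omega_le_powers h4 hz) (S4.inv_mem (T.sq_sq_mem (⟨r, hr, rfl⟩ : r ^ 2 ∈ S2)))
    rwa [show ⁅x, r⁆ * r ^ 2 * (r ^ 2 * r ^ 2)⁻¹ = ⁅x, r⁆ * (r ^ 2)⁻¹ by group, e] at h5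
  by_cases hk : ∃ k ∈ W, k ∉ S2 ∧ ⁅x, k⁆ ∈ S4
  · obtain ⟨k, hkW, hkS, hfk⟩ := hk
    refine T.eval_false (N := S4) (fun u hu => T.powers_inv T.rot.mem hu) (fun u hu => T.inv_gamma hu)
      (fun u hu => by obtain ⟨r, hr, rfl⟩ := hu; exact W.pow_mem hr 4) ?_
      (fun s hs => T.f_sq_mem x hs) hsum hkW hkS hfk hw hne
    intro i hi hii
    obtain ⟨r, hr, rfl⟩ := hi
    rw [map_pow, ← (show Commute r (γ r) from T.cw r hr _ (T.gw hr)).mul_pow, sq] at hii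
    have h6 := S2.mul_mem (S2.inv_mem (⟨r, hr, rfl⟩ : r ^ 2 ∈ S2))
      (T.mem_sq_of_sq_mem (W.mul_mem hr (T.gw hr)) hii)
    rw [show (r ^ 2)⁻¹ * (r * γ r) = r⁻¹ * γ r by group] at h6
    rw [sq]
    exact T.sq_sq_mem (T.free_sq hr h6)
  push Not at hk
  have hfull : ∀ v ∈ W, ⁅x, v⁆ * (v ^ 2)⁻¹ ∈ S4 := by
    intro v hv
    obtain ⟨r, hr, e, h5⟩ := hidem v hv
    have hrv : r * v⁻¹ ∈ S2 := by
      by_contra h
      refine hk _ (W.mul_mem hr (W.inv_mem hv)) h ?_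
      rw [T.f_mul x hr (W.inv_mem hv), T.f_inv x hv]
      exact h5
    rw [e, ← inv_pow, ← (show Commute r v⁻¹ from T.cw r hr _ (W.inv_mem hv)).mul_pow, sq]
    exact T.sq_sq_mem hrv
  have hγ : ∀ v, γ (γ⁻¹ v) = v := fun v => by rw [← MulAut.mul_apply, mul_inv_cancel]; rfl
  have hall : ∀ v ∈ W, v ∈ S2 := by
    intro v hv
    have hi1 : γ⁻¹ v ∈ W := T.inv _ (Γ.inv_mem T.rot.mem) v hv
    have hi2 : γ⁻¹ (γ⁻¹ v) ∈ W := T.inv _ (Γ.inv_mem T.rot.mem) _ hi1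
    have g0 := hfull v hv
    have g1 := T.powers_inv T.rot.mem (hfull _ hi1)
    have g2 := T.powers_inv T.rot.mem (T.powers_inv T.rot.mem (hfull _ hi2))
    simp only [map_mul, map_inv, map_commutatorElement, map_pow, hγ] at g1 g2
    have cz : ∀ u ∈ W, ∀ t ∈ W, Commute u t := T.cw
    have hv2 : v ^ 2 ∈ W := W.pow_mem hv 2
    have e : ⁅x, v⁆ * ⁅γ x, v⁆ * ⁅γ (γ x), v⁆ * (v ^ 2)⁻¹ * (v ^ 2)⁻¹ * (v ^ 2)⁻¹ =
        ⁅x, v⁆ * (v ^ 2)⁻¹ * (⁅γ x, v⁆ * (v ^ 2)⁻¹) * (⁅γ (γ x), v⁆ * (v ^ 2)⁻¹) := by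
      have c1 := (cz _ (W.inv_mem hv2) _ (T.comm_mem (γ x) hv)).eq
      have c2 := (cz _ (W.inv_mem hv2) _ (T.comm_mem (γ (γ x)) hv)).eq
      simp only [mul_assoc]
      rw [← mul_assoc (v ^ 2)⁻¹ ⁅γ x, v⁆, c1, mul_assoc, ← mul_assoc (v ^ 2)⁻¹ ⁅γ (γ x), v⁆, c2,
        mul_assoc, ← mul_assoc (v ^ 2)⁻¹ ⁅γ (γ x), v⁆, c2, mul_assoc]
    have h6 := S4.mul_mem (S4.inv_mem (hsum v hv)) (S4.mul_mem (S4.mul_mem g0 g1) g2)
    rw [← e] at h6
    refine T.mem_sq_of_sq_mem hv ?_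
    have h7 := S4.mul_mem (S4.inv_mem h6) (S4.inv_mem (T.sq_sq_mem (⟨v, hv, rfl⟩ : v ^ 2 ∈ S2)))
    simp only [mul_assoc, inv_mul_cancel_left, mul_inv_rev, inv_inv, mul_inv_cancel_left,
      inv_mul_cancel, mul_inv_cancel, mul_one] at h7
    simpa [sq] using h7
  exact T.W_not_le_sq hall

/-- The fourth powers are trivial. -/
theorem four_eq_bot : powers W T.comm 4 = ⊥ := by
  by_contra h4
  set S2 := powers W T.comm 2 with hS2
  set S4 := powers W T.comm 4 with hS4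
  haveI hS4n : S4.Normal := T.powers_normal 4
  haveI := T.normal
  -- the deep elements
  let K : Subgroup P :=
    { carrier := {x | ∀ w ∈ W, ⁅x, w⁆ ∈ S4}
      one_mem' := fun w _ => by simp [S4.one_mem]
      mul_mem' := fun {a b} ha hb w hw => by
        rw [show ⁅a * b, w⁆ = a * ⁅b, w⁆ * a⁻¹ * ⁅a, w⁆ by simp only [commutatorElement_def]; group]
        exact S4.mul_mem (hS4n.conj_mem _ (hb w hw) a) (ha w hw)
      inv_mem' := fun {a} ha w hw => by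
        rw [show ⁅a⁻¹, w⁆ = a⁻¹ * ⁅a, w⁆⁻¹ * a⁻¹⁻¹ by simp only [commutatorElement_def]; group]
        exact hS4n.conj_mem _ (S4.inv_mem (ha w hw)) _ }
  have hKn : K.Normal := ⟨fun a ha g w hw => by
    have h1 := hS4n.conj_mem _ (ha (g⁻¹ * w * g⁻¹⁻¹) (T.normal.conj_mem w hw g⁻¹)) g
    rwa [show g * ⁅a, g⁻¹ * w * g⁻¹⁻¹⁆ * g⁻¹ = ⁅g * a * g⁻¹, w⁆ by
      simp only [commutatorElement_def]; group] at h1⟩
  obtain ⟨x₀, hx₀, hx₀K⟩ := T.deep h4
  obtain ⟨m, hmK, hm2, hmc, hmW⟩ : ∃ m ∈ K, m * m ∈ W ∧ (∀ g, ⁅m, g⁆ ∈ W) ∧ m ∉ W := by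
    set π := QuotientGroup.mk' W with hπ
    have hN : (K.map π).Normal := hKn.map π (QuotientGroup.mk'_surjective _)
    have hN0 : K.map π ≠ ⊥ := fun h => hx₀ (by
      rw [Subgroup.map_eq_bot_iff, QuotientGroup.ker_mk'] at h
      exact h hx₀K)
    haveI := (T.setup.two.to_quotient W).isNilpotent
    obtain ⟨q, hq, hq1⟩ := (Subgroup.bot_or_exists_ne_one _).resolve_left
      (Solvable.inf_center_ne_bot hN0)
    obtain ⟨k, hk⟩ := IsPGroup.iff_orderOf.mp (T.setup.two.to_quotient W) q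
    have hk0 : k ≠ 0 := by
      rintro rfl
      exact hq1 (orderOf_eq_one_iff.mp (by simpa using hk))
    set q' := q ^ 2 ^ (k - 1) with hq'
    have ho : orderOf q' = 2 := by
      rw [hq', orderOf_pow' q (by positivity), hk, Nat.gcd_eq_right (pow_dvd_pow 2 (by omega)),
        Nat.pow_div (by omega) (by norm_num), show k - (k - 1) = 1 by omega, pow_one]
    obtain ⟨⟨m, hm, hme⟩, hc⟩ := Subgroup.pow_mem _ hq (2 ^ (k - 1))
    refine ⟨m, hm, ?_, fun g => ?_, fun h => ?_⟩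
    · rw [← QuotientGroup.eq_one_iff, ← sq]
      show π (m ^ 2) = 1
      rw [map_pow, hme]
      have := pow_orderOf_eq_one q'
      rwa [ho] at this
    · rw [← QuotientGroup.eq_one_iff]
      show π ⁅m, g⁆ = 1
      rw [map_commutatorElement, hme, commutatorElement_eq_one_iff_mul_comm]
      exact (Subgroup.mem_center_iff.1 hc (π g)).symm
    · have : q' = 1 := hme.symm.trans ((QuotientGroup.eq_one_iff m).2 h)
      rw [this, orderOf_one] at ho
      omega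
  have hdeep : ∀ j : ℕ, ∀ w ∈ W, ∃ z ∈ omega W T.comm, ∃ v ∈ W, ⁅m, w⁆ = z * v ^ 2 ^ (j + 2) := by
    intro j
    induction j with
    | zero =>
      intro w hw
      obtain ⟨r, hr, e⟩ := hmK w hw
      exact ⟨1, Subgroup.one_mem _, r, hr, by rw [one_mul]; exact e.symm⟩
    | succ j ih =>
      intro w hw
      obtain ⟨z, hz, v, hv, e⟩ := ih w hw
      obtain ⟨r, hr, er⟩ := hmK v hv
      set N := 2 ^ (j + 2) with hN
      have hu : ⁅m, z * v ^ N⁆ = r ^ (4 * N) := by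
        rw [T.f_mul m hz.1 (W.pow_mem hv N),
          commutatorElement_eq_one_iff_mul_comm.2 (T.mem_center_of_omega hz m), one_mul,
          T.f_pow m hv, ← er, ← pow_mul]
      have h0 : ⁅m * m, w⁆ = 1 := commutatorElement_eq_one_iff_mul_comm.2 (T.cw _ hm2 w hw)
      rw [T.f_left m m hw, e, hu, mul_assoc] at h0
      have hzz : z * v ^ N * (z * v ^ N) = v ^ (2 * N) := by
        rw [← sq, (show Commute z (v ^ N) from T.cw z hz.1 _ (W.pow_mem hv N)).mul_pow, hz.2, one_mul,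
          ← pow_mul, mul_comm]
      rw [hzz] at h0
      have hz' : v ^ N * r ^ (2 * N) ∈ omega W T.comm :=
        ⟨W.mul_mem (W.pow_mem hv _) (W.pow_mem hr _), by
          rw [(show Commute (v ^ N) (r ^ (2 * N)) from
            T.cw _ (W.pow_mem hv _) _ (W.pow_mem hr _)).mul_pow, ← pow_mul, ← pow_mul,
            T.cw _ (W.pow_mem hv _) _ (W.pow_mem hr _), mul_comm N 2,
            show 2 * N * 2 = 4 * N by ring]
          exact h0⟩
      refine ⟨_, Subgroup.mul_mem _ hz hz', r⁻¹, W.inv_mem hr, ?_⟩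
      rw [e, show 2 ^ (j + 1 + 2) = 2 * N by rw [hN]; ring, inv_pow]
      group
  have hmL : m ∈ T.small := by
    refine ⟨hm2, hmc, fun w hw => ?_⟩
    obtain ⟨n, hn⟩ := IsPGroup.iff_card.mp T.setup.two
    obtain ⟨z, hz, v, hv, e⟩ := hdeep n w hw
    have : v ^ 2 ^ (n + 2) = 1 := by rw [pow_add, pow_mul, ← hn, pow_card_eq_one', one_pow]
    rw [e, this, mul_one]
    exact hz
  have hcomm : ∀ a ∈ T.small, ∀ b ∈ T.small, ⁅a, b⁆ ∈ S2 := by
    intro a ha b hb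
    have hc : ⁅a, b⁆ ∈ W := ha.2.1 b
    have h1 : ⁅a * a, b⁆ = ⁅a, ⁅a, b⁆⁆ * (⁅a, b⁆ * ⁅a, b⁆) := by
      simp only [commutatorElement_def]; group
    have h2 : ⁅a * a, b⁆ ∈ omega W T.comm := by
      rw [← commutatorElement_inv]; exact Subgroup.inv_mem _ (hb.2.2 _ ha.1)
    rw [h1] at h2
    have h3 := Subgroup.mul_mem _ (Subgroup.inv_mem _ (ha.2.2 _ hc)) h2
    rw [inv_mul_cancel_left] at h3
    exact T.mem_sq_of_sq_mem hc (T.omega_le_powers h4 h3)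
  have hker : ∀ a ∈ T.small, a * a ∈ S2 → a ∈ W := by
    intro a ha ⟨v, hv, hve⟩
    by_contra haW
    obtain ⟨r, hr, er⟩ := T.omega_le_powers h4 (ha.2.2 _ (W.inv_mem hv))
    set v' := v⁻¹ * (r ^ 2)⁻¹ with hv'def
    have hr2 : (r ^ 2)⁻¹ ∈ W := W.inv_mem (W.pow_mem hr 2)
    have hv' : v' ∈ W := W.mul_mem (W.inv_mem hv) hr2
    have htL : a * v' ∈ T.small := T.small.mul_mem ha (T.W_le_small hv')
    have hts : (a * v') * (a * v') = 1 := by
      rw [sq_of_mem_normal T.normal hv' T.cw ha.1, hv'def, T.f_mul a (W.inv_mem hv) hr2,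
        T.small_sq ha (Subgroup.inv_mem _ ⟨r, hr, rfl⟩), mul_one, ← er, ← hve]
      have c := T.cw _ (W.inv_mem hv) _ hr2
      calc r ^ 4 * (v ^ 2 * (v⁻¹ * (r ^ 2)⁻¹ * (v⁻¹ * (r ^ 2)⁻¹)))
          = r ^ 4 * (v ^ 2 * (v⁻¹ * ((r ^ 2)⁻¹ * v⁻¹) * (r ^ 2)⁻¹)) := by group
        _ = r ^ 4 * (v ^ 2 * (v⁻¹ * (v⁻¹ * (r ^ 2)⁻¹) * (r ^ 2)⁻¹)) := by rw [← c]
        _ = 1 := by group
    refine T.no_invol (by rw [sq]; exact hts) (fun h => haW (by simpa using W.mul_mem h (W.inv_mem hv')))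
      fun g => ?_
    set t := a * v'
    set c := ⁅g, t⁆ with hc
    have hcW : c ∈ W := by rw [hc, ← commutatorElement_inv]; exact W.inv_mem (htL.2.1 g)
    have h1 : c * t * (c * t) = 1 := by
      rw [show c * t = g * t * g⁻¹ by rw [hc, commutatorElement_def]; group,
        show g * t * g⁻¹ * (g * t * g⁻¹) = g * (t * t) * g⁻¹ by group, hts, mul_one, mul_inv_cancel]
    have h2 : c * ⁅t, c⁆ * c = 1 := by
      rw [show c * t * (c * t) = c * ⁅t, c⁆ * c * (t * t) by rw [commutatorElement_def]; group, hts,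
        mul_one] at h1
      exact h1
    rw [mul_assoc, T.cw _ (T.comm_mem t hcW) _ hcW, ← mul_assoc] at h2
    refine ⟨hcW, ?_⟩
    rw [sq]
    have h3 : c * c = ⁅t, c⁆⁻¹ := eq_inv_of_mul_eq_one_left h2
    have hcS : c ∈ S2 := T.mem_sq_of_sq_mem hcW
      (T.omega_le_powers h4 (h3 ▸ Subgroup.inv_mem _ (htL.2.2 c hcW)))
    rw [h3, T.small_sq htL hcS, inv_one]
  have hxS : m * m ∉ S2 := fun h => hmW (hker m hmL h)
  set y := γ m with hy
  have hyL : y ∈ T.small := T.gamma_small hmL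
  have hyy : y * y = γ (m * m) := by rw [map_mul]
  refine T.no_square hcomm hmL hxS fun k hk => ?_
  set H := Subgroup.closure ((W : Set P) ∪ {m, y}) with hH
  have hWH : ∀ w ∈ W, w ∈ H := fun w hw => Subgroup.subset_closure (Or.inl hw)
  have hq : ∀ a ∈ T.small, (a * a)⁻¹ * (k * k) ∈ S2 → a⁻¹ * k ∈ W := by
    intro a ha h
    refine hker _ (T.small.mul_mem (T.small.inv_mem ha) hk) ?_
    have hs : a⁻¹ * k * (a⁻¹ * k) * ((a * a)⁻¹ * (k * k))⁻¹ ∈ S2 := by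
      rw [show a⁻¹ * k * (a⁻¹ * k) * ((a * a)⁻¹ * (k * k))⁻¹ = a⁻¹ * ⁅k, a⁻¹⁆ * a⁻¹⁻¹ by
        simp only [commutatorElement_def, mul_inv_rev, inv_inv, mul_assoc, mul_inv_cancel_left]]
      exact (T.powers_normal 2).conj_mem _ (hcomm k hk a⁻¹ (T.small.inv_mem ha)) _
    have h5 := S2.mul_mem hs h
    rwa [inv_mul_cancel_right] at h5
  rcases T.classes (a := m * m) (b := y * y) hm2 hyL.1 hk.1 hxS
      (by rw [hyy]; exact fun h => hxS (T.inv_gamma h))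
      (by rw [hyy]; exact fun h => hxS (T.free_sq hm2 h)) with h | h | h | h
  · exact hWH k (hker k hk h)
  · simpa using H.mul_mem (Subgroup.subset_closure (Or.inr (by simp)) : m ∈ H) (hWH _ (hq m hmL h))
  · simpa using H.mul_mem (Subgroup.subset_closure (Or.inr (by simp)) : y ∈ H) (hWH _ (hq y hyL h))
  · have hs : m * y * (m * y) * (m * m * (y * y))⁻¹ ∈ S2 := by
      rw [show m * y * (m * y) * (m * m * (y * y))⁻¹ = m * ⁅y, m⁆ * m⁻¹ by
        rw [commutatorElement_def]; group]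
      exact (T.powers_normal 2).conj_mem _ (hcomm y hyL m hmL) m
    have h2 : (m * y * (m * y))⁻¹ * (k * k) ∈ S2 := by
      have h3 := S2.mul_mem ((T.powers_normal 2).conj_mem _ (S2.inv_mem hs) (m * m * (y * y))⁻¹) h
      convert h3 using 1
      group
    have h5 := H.mul_mem (H.mul_mem (Subgroup.subset_closure (Or.inr (by simp)) : m ∈ H)
      (Subgroup.subset_closure (Or.inr (by simp)) : y ∈ H)) (hWH _ (hq _ (T.small.mul_mem hmL hyL) h2))
    rwa [mul_inv_cancel_left] at h5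

/-- **The shape.** -/
theorem shape : (∀ x : P, x ^ 2 ∈ Subgroup.center P) ∧ commutator P = Subgroup.center P ∧
    ∀ z ∈ Subgroup.center P, z ^ 2 = 1 := by
  set Z := omega W T.comm with hZ
  have h4 := T.four_eq_bot
  have hS : powers W T.comm 2 = Z := le_antisymm (fun u hu => ⟨T.sq_le hu, by
      have := T.sq_sq_mem hu
      rw [h4, Subgroup.mem_bot] at this
      rw [sq]; exact this⟩) T.omega_le_sq
  have hsqW : ∀ x : P, x * x ∈ W := fun x => T.self_centralizing.le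
    (Subgroup.mem_centralizer_iff.2 fun w hw => by
      have h1 : ⁅x * x, w⁆ = 1 := by
        rw [T.f_left x x hw, mul_assoc]
        have h2 := Subgroup.mul_mem _ (T.f_sq_mem x (T.sq_in x hw)) (T.sq_sq_mem (T.sq_in x hw))
        rwa [h4, Subgroup.mem_bot] at h2
      exact (commutatorElement_eq_one_iff_mul_comm.1 h1).symm)
  have hX := T.comm_in_of_sq hsqW
  have hsmall : ∀ x, x ∈ T.small := fun x => ⟨hsqW x, hX x, fun w hw => hS.le (T.sq_in x hw)⟩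
  have hinj : ∀ x : P, x ∉ W → ∀ a ∈ W, a ∉ powers W T.comm 2 → ⁅x, a⁆ ≠ 1 := by
    intro x hx a ha haS h
    obtain ⟨w₀, hw₀, hne⟩ : ∃ w ∈ W, ⁅x, w⁆ ≠ 1 := by
      by_contra hall
      push Not at hall
      exact hx (T.self_centralizing.le (Subgroup.mem_centralizer_iff.2 fun w hw =>
        (commutatorElement_eq_one_iff_mul_comm.1 (hall w hw)).symm))
    refine T.eval_false (N := ⊥) (x := x) (by simp) (fun u hu => by
        simpa [Subgroup.mem_bot] using congrArg γ.symm (Subgroup.mem_bot.1 hu)) bot_le ?_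
      (fun s hs => by rw [T.small_sq (hsmall x) hs]; exact Subgroup.one_mem _) ?_ ha haS
      (by rw [h]; exact Subgroup.one_mem _) hw₀ (by rwa [Subgroup.mem_bot])
    · intro i hi hii
      rw [Subgroup.mem_bot] at hii ⊢
      have hiZ : i ∈ Z := hS ▸ hi
      refine T.rot.free i hiZ ?_
      rw [← inv_eq_of_mul_eq_one_right hii, inv_eq_iff_mul_eq_one, ← sq, hiZ.2]
    · intro w hw
      rw [← T.small_add (hsmall x) (hsmall _) hw, ← T.small_add (hsmall _) (hsmall _) hw,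
        commutatorElement_eq_one_iff_mul_comm.2 (T.cw _ (T.three_mem hX x) w hw)]
      exact Subgroup.one_mem _
  obtain ⟨a, ha, haS⟩ := SetLike.not_le_iff_exists.1 T.W_not_le_sq
  have hgen : ∀ x : P, x ∉ W → ∀ k : P, k ∈ Subgroup.closure ((W : Set P) ∪ {x, γ x}) := by
    intro x hx k
    set H := Subgroup.closure ((W : Set P) ∪ {x, γ x}) with hH
    have hxy : x⁻¹ * γ x ∉ W := fun h => hx (T.fixed_coset hX h)
    have hy : γ x ∉ W := fun h => hx (by simpa using T.inv _ (Γ.inv_mem T.rot.mem) _ h)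
    have hf : ∀ b : P, b ∈ H → ⁅b, a⁆ = ⁅k, a⁆ → k ∈ H := by
      intro b hb e
      have h1 : b⁻¹ * k ∈ W := by
        by_contra hne
        refine hinj _ hne a ha haS ?_
        have h2 : ⁅b, a⁆ = ⁅b, a⁆ * ⁅b⁻¹ * k, a⁆ := by
          rw [← T.small_add (hsmall _) (hsmall _) ha, mul_inv_cancel_left, e]
        exact left_eq_mul.1 h2
      simpa using H.mul_mem hb (Subgroup.subset_closure (Or.inl h1) : b⁻¹ * k ∈ H)
    set z1 := ⁅x, a⁆ with hz1
    set z2 := ⁅γ x, a⁆ with hz2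
    have m1 : z1 ∈ Z := (hsmall x).2.2 a ha
    have m2 : z2 ∈ Z := (hsmall _).2.2 a ha
    have n1 : z1 ≠ 1 := hinj x hx a ha haS
    have n2 : z2 ≠ 1 := hinj _ hy a ha haS
    have n3 : z1 ≠ z2 := fun e => hinj _ hxy a ha haS (by
      have h2 : z1 * ⁅x⁻¹ * γ x, a⁆ = z2 := by
        rw [hz1, ← T.small_add (hsmall _) (hsmall _) ha, mul_inv_cancel_left]
      rw [← e] at h2
      exact mul_eq_left.1 h2)
    have hk' : ⁅k, a⁆ = 1 ∨ ⁅k, a⁆ = z1 ∨ ⁅k, a⁆ = z2 ∨ ⁅k, a⁆ = z1 * z2 := by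
      classical
      by_contra hne
      push Not at hne
      haveI : Fintype ↥Z := Fintype.ofFinite _
      have hsub : ({1, ⟨z1, m1⟩, ⟨z2, m2⟩, ⟨z1 * z2, Z.mul_mem m1 m2⟩,
          ⟨⁅k, a⁆, (hsmall k).2.2 a ha⟩} : Finset ↥Z).card ≤ Fintype.card ↥Z := Finset.card_le_univ _
      have n4 : z1 * z2 ≠ 1 := fun e => n3 (by
        rw [← inv_eq_of_mul_eq_one_right e, eq_inv_iff_mul_eq_one, ← sq, m1.2])
      rw [Finset.card_insert_of_notMem (by
          simp [Finset.mem_insert, Finset.mem_singleton, Subtype.ext_iff, Ne.symm n1, Ne.symm n2,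
            Ne.symm n4, Ne.symm hne.1]),
        Finset.card_insert_of_notMem (by
          simp [Finset.mem_insert, Finset.mem_singleton, Subtype.ext_iff, n3, n2, Ne.symm hne.2.1]),
        Finset.card_insert_of_notMem (by
          simp [Finset.mem_insert, Finset.mem_singleton, Subtype.ext_iff, n1, Ne.symm hne.2.2.1]),
        Finset.card_pair (fun e => hne.2.2.2 (congrArg Subtype.val e).symm),
        ← Nat.card_eq_fintype_card, T.rot.card] at hsub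
      omega
    rcases hk' with e | e | e | e
    · exact hf 1 H.one_mem (by simp [e])
    · exact hf x (Subgroup.subset_closure (Or.inr (by simp))) e.symm
    · exact hf (γ x) (Subgroup.subset_closure (Or.inr (by simp))) e.symm
    · exact hf (x * γ x) (H.mul_mem (Subgroup.subset_closure (Or.inr (by simp)))
        (Subgroup.subset_closure (Or.inr (by simp)))) (by rw [T.small_add (hsmall _) (hsmall _) ha, e])
  have hcomm : ∀ b c : P, ⁅b, c⁆ ∈ Z := by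
    obtain ⟨x, hx⟩ := T.exists_not_mem
    set c₀ := ⁅x, γ x⁆ with hc₀
    have hc₀W : c₀ ∈ W := hX _ _
    let U : Subgroup P :=
      { carrier := {w | w ∈ Z ∨ w * c₀⁻¹ ∈ Z}
        one_mem' := Or.inl Z.one_mem
        mul_mem' := by
          have hmem : ∀ w, w ∈ Z ∨ w * c₀⁻¹ ∈ Z → w ∈ W := by
            rintro w (h | h)
            · exact h.1
            · simpa using W.mul_mem h.1 hc₀W
          have hcc : c₀ * c₀ ∈ Z := hS ▸ ⟨c₀, hc₀W, sq c₀⟩
          rintro u v hu hv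
          have huW := hmem u hu
          have hvW := hmem v hv
          rcases hu with hu | hu <;> rcases hv with hv | hv
          · exact Or.inl (Z.mul_mem hu hv)
          · exact Or.inr (by rw [mul_assoc]; exact Z.mul_mem hu hv)
          · exact Or.inr (by
              rw [mul_assoc, T.cw v hvW _ (W.inv_mem hc₀W), ← mul_assoc]; exact Z.mul_mem hu hv)
          · refine Or.inl ?_
            have h := Z.mul_mem (Z.mul_mem hu hv) hcc
            rwa [show u * c₀⁻¹ * (v * c₀⁻¹) * (c₀ * c₀) = u * (c₀⁻¹ * v) * c₀ by group,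
              T.cw _ (W.inv_mem hc₀W) v hvW, ← mul_assoc, inv_mul_cancel_right] at h
        inv_mem' := by
          rintro u (hu | hu)
          · exact Or.inl (Z.inv_mem hu)
          · refine Or.inr ?_
            have huW : u ∈ W := by simpa using W.mul_mem hu.1 hc₀W
            have h := Z.mul_mem (Z.inv_mem hu) (Z.inv_mem (hS ▸ ⟨c₀, hc₀W, sq c₀⟩ : c₀ * c₀ ∈ Z))
            rwa [show (u * c₀⁻¹)⁻¹ * (c₀ * c₀)⁻¹ = c₀ * u⁻¹ * c₀⁻¹ * c₀⁻¹ by group,
              T.cw c₀ hc₀W _ (W.inv_mem huW), mul_inv_cancel_right] at h }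
    have hZU : Z ≤ U := fun z hz => Or.inl hz
    have hUW : ∀ u ∈ U, u ∈ W := by
      rintro u (h | h)
      · exact h.1
      · simpa using W.mul_mem h.1 hc₀W
    have hconj : ∀ g : P, ∀ u ∈ U, g * u * g⁻¹ ∈ U := fun g u hu => by
      rw [show g * u * g⁻¹ = ⁅g, u⁆ * u by rw [commutatorElement_def]; group]
      exact U.mul_mem (hZU ((hsmall g).2.2 u (hUW u hu))) hu
    have key : ∀ d : P, (∀ b ∈ ({x, γ x} : Set P), ⁅b, d⁆ ∈ U) → ∀ b : P, ⁅b, d⁆ ∈ U := by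
      intro d hd b
      induction hgen x hx b using Subgroup.closure_induction with
      | mem b hb =>
        rcases hb with hb | hb
        · rw [← commutatorElement_inv]; exact U.inv_mem (hZU ((hsmall d).2.2 b hb))
        · exact hd b hb
      | one => simp [U.one_mem]
      | mul b c _ _ h1 h2 =>
        rw [show ⁅b * c, d⁆ = b * ⁅c, d⁆ * b⁻¹ * ⁅b, d⁆ by simp only [commutatorElement_def]; group]
        exact U.mul_mem (hconj b _ h2) h1
      | inv b _ h1 =>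
        rw [show ⁅b⁻¹, d⁆ = b⁻¹ * ⁅b, d⁆⁻¹ * b⁻¹⁻¹ by simp only [commutatorElement_def]; group]
        exact hconj _ _ (U.inv_mem h1)
    have hc₀U : c₀ ∈ U := Or.inr (by rw [mul_inv_cancel]; exact Z.one_mem)
    have hall : ∀ b c : P, ⁅b, c⁆ ∈ U := fun b c => key c (fun d hd => by
      rw [← commutatorElement_inv]
      refine U.inv_mem (key d (fun e he => ?_) c)
      rcases hd with rfl | rfl <;> rcases he with rfl | rfl
      · simp [U.one_mem]
      · rw [← commutatorElement_inv]; exact U.inv_mem hc₀U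
      · exact hc₀U
      · simp [U.one_mem]) b
    have hcZ : c₀ ∈ Z := by
      have hγc := hall (γ x) (γ (γ x))
      rw [← map_commutatorElement] at hγc
      rcases hγc with h | h
      · exact hS ▸ T.inv_gamma (hS.symm ▸ h)
      · refine hS ▸ T.free_sq hc₀W (hS.symm ▸ ?_)
        rwa [T.cw _ (W.inv_mem hc₀W) _ (T.gw hc₀W)]
    intro b c
    rcases hall b c with h | h
    · exact h
    · simpa using Z.mul_mem h hcZ
  have hsq : ∀ x : P, x * x ∈ Z := by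
    intro x
    rw [← hS]
    by_contra hxS
    have hxW : x ∉ W := fun h => hxS ⟨x, h, sq x⟩
    exact T.no_square (fun b _ c _ => hS.symm ▸ hcomm b c) (hsmall x) hxS fun k _ => hgen x hxW k
  have hcenter : Subgroup.center P ≤ Z := by
    intro c hc
    have hcW : c ∈ W := T.self_centralizing.le (Subgroup.mem_centralizer_iff.2 fun w _ =>
      Subgroup.mem_center_iff.1 hc w)
    by_contra hcZ
    have hcS : c ∉ powers W T.comm 2 := hS ▸ hcZ
    refine T.noncentral ((T.four (V := W ⊓ Subgroup.center P) inf_le_left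
      (fun s hs => ⟨T.sq_le hs, T.omega_central (hS.le hs)⟩) (a := c) (b := γ c) ⟨hcW, hc⟩
      ⟨T.gw hcW, MinNC8.map_mem_of_char γ hc⟩ hcS (fun h => hcS (T.inv_gamma h))
      (fun h => hcS (T.free_sq hcW h))).ge.trans inf_le_right)
  refine ⟨fun x => by rw [sq]; exact T.omega_central (hsq x), ?_, fun z hz => (hcenter hz).2⟩
  have hle : commutator P ≤ Z := by
    rw [commutator_def, Subgroup.commutator_le]
    exact fun b _ c _ => hcomm b c
  have hne : commutator P ≠ ⊥ := fun h => T.noncentral fun w _ => Subgroup.mem_center_iff.2 fun g =>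
    commutatorElement_eq_one_iff_mul_comm.1 (Subgroup.mem_bot.1
      (h ▸ Subgroup.commutator_mem_commutator (Subgroup.mem_top g) (Subgroup.mem_top w)))
  have e := T.rot.eq_of_inv hle hne fun u hu => MinNC8.map_mem_of_char γ hu
  exact le_antisymm (hle.trans T.omega_central) (e ▸ hcenter)

end

end Top

end Cfsg.Agent.Lib.ScnTwo
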