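import Cfsg.Agent.Lib.ScnTwo.NonCentral

/-!
# The structure in the presence of a non-central invariant abelian normal subgroup
-/

set_option autoImplicit false

open scoped commutatorElement

namespace Cfsg.Agent.Lib.ScnTwo

universe u

variable {P : Type u} [Group P] [Finite P] {Γ : Subgroup (MulAut P)} {W : Subgroup P} {γ : MulAut P}

/-- An odd order automorphism that swaps two elements fixes them. -/
theorem eq_of_swap {δ : MulAut P} (hδ : Odd (orderOf δ)) {x : P} (h : δ (δ x) = x) : δ x = x := by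
  obtain ⟨j, hj⟩ := hδ
  have h2 : ∀ i : ℕ, (δ ^ (2 * i)) x = x := by
    intro i
    induction i with
    | zero => rfl
    | succ i ih =>
      rw [show 2 * (i + 1) = 1 + (1 + 2 * i) by ring, pow_add, pow_add, pow_one, MulAut.mul_apply,
        MulAut.mul_apply, ih, h]
  have h3 : (δ ^ (1 + 2 * j)) x = x := by
    rw [show 1 + 2 * j = orderOf δ by omega, pow_orderOf_eq_one]; rfl
  rwa [pow_add, MulAut.mul_apply, pow_one, h2] at h3

namespace Top

section

variable (T : Top Γ W γ)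

include T

theorem powers_normal (n : ℕ) : (powers W T.comm n).Normal :=
  ⟨fun y hy g => by
    obtain ⟨w, hw, rfl⟩ := hy
    exact ⟨g * w * g⁻¹, T.normal.conj_mem w hw g, conj_pow⟩⟩

theorem powers_inv {δ : MulAut P} (hδ : δ ∈ Γ) {n : ℕ} {y : P} (hy : y ∈ powers W T.comm n) :
    δ y ∈ powers W T.comm n := by
  obtain ⟨w, hw, rfl⟩ := hy
  exact ⟨δ w, T.inv δ hδ w hw, (map_pow δ w n).symm⟩

theorem inv_gamma {n : ℕ} {y : P} (hy : γ y ∈ powers W T.comm n) : y ∈ powers W T.comm n := by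
  simpa using T.powers_inv (Γ.inv_mem T.rot.mem) hy

theorem W_not_le_sq : ¬ W ≤ powers W T.comm 2 := fun h => by
  have := T.relIndex_sq
  rw [Subgroup.relIndex_eq_one.2 h] at this
  omega

/-- The group acts trivially modulo the squares. -/
theorem sq_in (x : P) {w : P} (hw : w ∈ W) : ⁅x, w⁆ ∈ powers W T.comm 2 := by
  set S2 := powers W T.comm 2 with hS2
  haveI hn : S2.Normal := T.powers_normal 2
  let V : Subgroup P :=
    { carrier := {w | w ∈ W ∧ ∀ x, ⁅x, w⁆ ∈ S2}
      one_mem' := ⟨W.one_mem, fun x => by simp [S2.one_mem]⟩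
      mul_mem' := fun {a b} ha hb => ⟨W.mul_mem ha.1 hb.1, fun x => by
        rw [T.f_mul x ha.1 hb.1]; exact S2.mul_mem (ha.2 x) (hb.2 x)⟩
      inv_mem' := fun {a} ha => ⟨W.inv_mem ha.1, fun x => by
        rw [T.f_inv x ha.1]; exact S2.inv_mem (ha.2 x)⟩ }
  have hSV : S2 ≤ V := fun s hs => ⟨T.sq_le hs, fun x => by
    obtain ⟨v, hv, rfl⟩ := hs
    rw [T.f_pow x hv]
    exact ⟨_, T.comm_mem x hv, rfl⟩⟩
  set π := QuotientGroup.mk' S2 with hπ
  have hN : (W.map π).Normal := T.normal.map π (QuotientGroup.mk'_surjective _)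
  have hN0 : W.map π ≠ ⊥ := fun h => T.W_not_le_sq (by
    rwa [Subgroup.map_eq_bot_iff, QuotientGroup.ker_mk'] at h)
  haveI := (T.setup.two.to_quotient S2).isNilpotent
  obtain ⟨q, ⟨⟨a, ha, hae⟩, hqc⟩, hq1⟩ := (Subgroup.bot_or_exists_ne_one _).resolve_left
    (Solvable.inf_center_ne_bot hN0)
  have haS : a ∉ S2 := fun h => hq1 (hae ▸ (QuotientGroup.eq_one_iff a).2 h)
  have haV : a ∈ V := ⟨ha, fun x => by
    rw [← QuotientGroup.eq_one_iff]
    show π ⁅x, a⁆ = 1
    rw [map_commutatorElement, hae, commutatorElement_eq_one_iff_mul_comm]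
    exact Subgroup.mem_center_iff.1 hqc (π x)⟩
  have hγa : γ a ∈ V := ⟨T.gw ha, fun x => by
    have h1 := T.powers_inv T.rot.mem (haV.2 (γ⁻¹ x))
    simpa [map_commutatorElement] using h1⟩
  have e : V = W := T.four (fun v hv => hv.1) hSV haV hγa haS (fun h => haS (T.inv_gamma h))
    (fun h => haS (T.free_sq ha h))
  exact (e.ge hw).2 x

theorem f_sq_mem (x : P) {u : P} (hu : u ∈ powers W T.comm 2) : ⁅x, u⁆ ∈ powers W T.comm 4 := by
  obtain ⟨v, hv, rfl⟩ := hu
  rw [T.f_pow x hv]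
  obtain ⟨r, hr, e⟩ := T.sq_in x hv
  exact ⟨r, hr, by rw [← e, ← pow_mul]⟩

theorem sq_sq_mem {u : P} (hu : u ∈ powers W T.comm 2) : u * u ∈ powers W T.comm 4 := by
  obtain ⟨v, hv, rfl⟩ := hu
  exact ⟨v, hv, by rw [← pow_add]⟩

theorem mem_sq_of_sq_mem {w : P} (hw : w ∈ W) (h : w * w ∈ powers W T.comm 4) :
    w ∈ powers W T.comm 2 := by
  obtain ⟨r, hr, e⟩ := h
  have hz : w * (r ^ 2)⁻¹ ∈ omega W T.comm := ⟨W.mul_mem hw (W.inv_mem (W.pow_mem hr 2)), by
    rw [(show Commute w (r ^ 2)⁻¹ from T.cw w hw _ (W.inv_mem (W.pow_mem hr 2))).mul_pow, sq w, ← e,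
      inv_pow, ← pow_mul, mul_inv_cancel]⟩
  simpa using Subgroup.mul_mem _ (T.omega_le_sq hz) (show r ^ 2 ∈ powers W T.comm 2 from ⟨r, hr, rfl⟩)

theorem free_sq2 {w : P} (hw : w ∈ W) (h : w⁻¹ * γ (γ w) ∈ powers W T.comm 2) :
    w ∈ powers W T.comm 2 := by
  have huW : w⁻¹ * γ w ∈ W := W.mul_mem (W.inv_mem hw) (T.gw hw)
  refine T.free_sq hw (T.free_sq huW ?_)
  have e : (w⁻¹ * γ w)⁻¹ * γ (w⁻¹ * γ w) = ((w⁻¹ * γ w) ^ 2)⁻¹ * (w⁻¹ * γ (γ w)) := by
    rw [map_mul, map_inv, sq]; group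
  rw [e]
  exact Subgroup.mul_mem _ (Subgroup.inv_mem _ ⟨_, huW, rfl⟩) h

/-- Elements fixing the subgroup move elements only inside it. -/
theorem coset_of_fix {ε : MulAut P} (hε : ∀ w ∈ W, ε w = w) (x : P) : x⁻¹ * ε x ∈ W := by
  refine T.self_centralizing.le (Subgroup.mem_centralizer_iff.2 fun w hw => ?_)
  have h1 : ε x * w * (ε x)⁻¹ = x * w * x⁻¹ := by
    have h2 := hε _ (T.normal.conj_mem w hw x)
    rwa [map_mul, map_mul, map_inv, hε w hw] at h2
  calc w * (x⁻¹ * ε x) = x⁻¹ * (x * w * x⁻¹) * ε x := by group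
    _ = x⁻¹ * (ε x * w * (ε x)⁻¹) * ε x := by rw [h1]
    _ = x⁻¹ * ε x * w := by group

theorem omega_list {a : P} (ha : a ∈ omega W T.comm) (ha1 : a ≠ 1) {b : P} (hb : b ∈ omega W T.comm) :
    b = 1 ∨ b = a ∨ b = γ a ∨ b = γ (γ a) := by
  classical
  by_contra hne
  push Not at hne
  haveI : Fintype ↥(omega W T.comm) := Fintype.ofFinite _
  have m1 : γ a ∈ omega W T.comm := T.rot.inv γ T.rot.mem a ha
  have m2 : γ (γ a) ∈ omega W T.comm := T.rot.inv γ T.rot.mem _ m1
  have n1 : γ a ≠ 1 := fun e => ha1 (γ.injective (e.trans (map_one γ).symm))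
  have n2 : γ (γ a) ≠ 1 := fun e => n1 (γ.injective (e.trans (map_one γ).symm))
  have n3 : γ a ≠ a := fun e => ha1 (T.rot.free a ha e)
  have n4 : γ (γ a) ≠ a := fun e => n3 (eq_of_swap T.rot.oddOrder e)
  have n5 : γ (γ a) ≠ γ a := fun e => n3 (γ.injective e)
  have hsub : ({1, ⟨a, ha⟩, ⟨γ a, m1⟩, ⟨γ (γ a), m2⟩, ⟨b, hb⟩} : Finset ↥(omega W T.comm)).card ≤
      Fintype.card ↥(omega W T.comm) := Finset.card_le_univ _
  rw [Finset.card_insert_of_notMem (by
      simp [Finset.mem_insert, Finset.mem_singleton, Subtype.ext_iff, Ne.symm ha1, Ne.symm n1,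
        Ne.symm n2, Ne.symm hne.1]),
    Finset.card_insert_of_notMem (by
      simp [Finset.mem_insert, Finset.mem_singleton, Subtype.ext_iff, Ne.symm n3, Ne.symm n4,
        Ne.symm hne.2.1]),
    Finset.card_insert_of_notMem (by
      simp [Finset.mem_insert, Finset.mem_singleton, Subtype.ext_iff, Ne.symm n5, Ne.symm hne.2.2.1]),
    Finset.card_pair (fun e => hne.2.2.2 (congrArg Subtype.val e).symm),
    ← Nat.card_eq_fintype_card, T.rot.card] at hsub
  omega

theorem gamma_three {w : P} (hw : w ∈ W) : γ (γ (γ w)) = w := by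
  have hmem : γ ^ 3 ∈ Γ := Γ.pow_mem T.rot.mem 3
  have h3 : ∀ v, (γ ^ 3) v = γ (γ (γ v)) := fun v => by
    rw [pow_succ, pow_succ, pow_one, MulAut.mul_apply, MulAut.mul_apply]
  rw [← h3]
  refine fix_of_omega T.setup.two (MinNC8.odd_orderOf T.setup.odd hmem) T.comm
    (fun v hv => T.inv _ hmem v hv) (fun a haW ha2 => ?_) w hw
  by_cases ha1 : a = 1
  · rw [ha1, map_one]
  have ha : a ∈ omega W T.comm := ⟨haW, ha2⟩
  rw [h3]
  rcases T.omega_list ha ha1 (T.rot.inv γ T.rot.mem _ (T.rot.inv γ T.rot.mem _ (T.rot.inv γ T.rot.mem a ha)))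
    with e | e | e | e
  · exact absurd (γ.injective (γ.injective (γ.injective (e.trans (by simp))))) ha1
  · exact e
  · exact absurd (eq_of_swap T.rot.oddOrder (γ.injective e)) (fun h => ha1 (T.rot.free a ha h))
  · exact absurd (T.rot.free a ha (γ.injective (γ.injective e))) ha1

/-- Every element of `Γ` acts on the subgroup as a power of `γ`. -/
theorem gamma_pow {δ : MulAut P} (hδ : δ ∈ Γ) : ∃ k : ℕ, ∀ w ∈ W, ((γ ^ k)⁻¹ * δ) w = w := by
  obtain ⟨a, ha, ha1⟩ := (Subgroup.bot_or_exists_ne_one (omega W T.comm)).resolve_left fun h => by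
    have := T.rot.card
    rw [h, Subgroup.card_bot] at this
    omega
  obtain ⟨k, hk⟩ : ∃ k : ℕ, δ a = (γ ^ k) a := by
    rcases T.omega_list ha ha1 (T.rot.inv δ hδ a ha) with e | e | e | e
    · exact absurd (δ.injective (e.trans (map_one δ).symm)) ha1
    · exact ⟨0, e⟩
    · exact ⟨1, by rw [pow_one]; exact e⟩
    · exact ⟨2, by rw [sq, MulAut.mul_apply]; exact e⟩
  refine ⟨k, ?_⟩
  set ε := (γ ^ k)⁻¹ * δ with hε
  have hmem : ε ∈ Γ := Γ.mul_mem (Γ.inv_mem (Γ.pow_mem T.rot.mem k)) hδ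
  have hodd := MinNC8.odd_orderOf T.setup.odd hmem
  have hεa : ε a = a := by
    rw [hε, MulAut.mul_apply, hk, ← MulAut.mul_apply, inv_mul_cancel]; rfl
  have m1 : γ a ∈ omega W T.comm := T.rot.inv γ T.rot.mem a ha
  have n1 : γ a ≠ 1 := fun e => ha1 (γ.injective (e.trans (map_one γ).symm))
  have hεg : ε (γ a) = γ a := by
    rcases T.omega_list ha ha1 (T.rot.inv ε hmem _ m1) with e | e | e | e
    · exact absurd (ε.injective (e.trans (map_one ε).symm)) n1
    · exact absurd (ε.injective (e.trans hεa.symm)) (fun h => ha1 (T.rot.free a ha h))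
    · exact e
    · refine eq_of_swap hodd ?_
      rw [e]
      rcases T.omega_list ha ha1 (T.rot.inv ε hmem _ (T.rot.inv γ T.rot.mem _ m1)) with e' | e' | e' | e'
      · exact absurd (γ.injective ((ε.injective (e'.trans (map_one ε).symm)).trans (map_one γ).symm)) n1
      · exact absurd (eq_of_swap T.rot.oddOrder (ε.injective (e'.trans hεa.symm)))
          (fun h => ha1 (T.rot.free a ha h))
      · exact e'
      · exact absurd (ε.injective (e'.trans e.symm)) fun h =>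
          ha1 (T.rot.free a ha (γ.injective h))
  refine fix_of_omega T.setup.two hodd T.comm (fun v hv => T.inv _ hmem v hv) fun b hbW hb2 => ?_
  rcases T.omega_list ha ha1 (show b ∈ omega W T.comm from ⟨hbW, hb2⟩) with rfl | rfl | rfl | rfl
  · exact map_one ε
  · exact hεa
  · exact hεg
  · -- the last involution is the product of the other two
    have hprod : γ (γ a) = a * γ a := by
      rcases T.omega_list ha ha1 ((omega W T.comm).mul_mem ha m1) with e | e | e | e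
      · refine absurd ?_ (fun h => ha1 (T.rot.free a ha h))
        rw [← inv_eq_of_mul_eq_one_right e, inv_eq_iff_mul_eq_one, ← sq, ha.2]
      · exact absurd (mul_eq_left.1 e) n1
      · exact absurd (mul_eq_right.1 e) ha1
      · exact e.symm
    rw [hprod, map_mul, hεa, hεg]

/-- Only the trivial coset is fixed, when the quotient is abelian. -/
theorem fixed_coset (hX : ∀ a b : P, ⁅a, b⁆ ∈ W) {e : P} (he : e⁻¹ * γ e ∈ W) : e ∈ W := by
  classical
  haveI := T.normal
  set π := QuotientGroup.mk' W with hπ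
  letI : CommGroup (P ⧸ W) := { (inferInstance : Group (P ⧸ W)) with
    mul_comm := fun a b => by
      induction a using QuotientGroup.induction_on with
      | _ a =>
        induction b using QuotientGroup.induction_on with
        | _ b =>
          have h1 : π ⁅a, b⁆ = 1 := (QuotientGroup.eq_one_iff _).2 (hX a b)
          rw [map_commutatorElement, commutatorElement_eq_one_iff_mul_comm] at h1
          exact h1 }
  have hfix : ∀ δ ∈ Γ, π (δ e) = π e := by
    intro δ hδ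
    obtain ⟨k, hk⟩ := T.gamma_pow hδ
    have h1 : ∀ j : ℕ, π ((γ ^ j) e) = π e := by
      intro j
      induction j with
      | zero => rfl
      | succ j ih =>
        rw [pow_succ, MulAut.mul_apply]
        have h2 : π ((γ ^ j) (e⁻¹ * γ e)) = 1 :=
          (QuotientGroup.eq_one_iff _).2 (T.inv _ (Γ.pow_mem T.rot.mem j) _ he)
        rw [map_mul, map_inv, map_mul, map_inv, ih, inv_mul_eq_one] at h2
        exact h2.symm
    have h2 : π ((γ ^ k) (e⁻¹ * ((γ ^ k)⁻¹ * δ) e)) = 1 :=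
      (QuotientGroup.eq_one_iff _).2 (T.inv _ (Γ.pow_mem T.rot.mem k) _ (T.coset_of_fix hk e))
    rw [map_mul, map_inv, map_mul, map_inv, h1, inv_mul_eq_one, ← MulAut.mul_apply,
      mul_inv_cancel_left] at h2
    exact h2.symm
  cases nonempty_fintype ↥Γ
  let f : P →* P ⧸ W :=
    { toFun := fun x => ∏ δ : ↥Γ, π ((δ : MulAut P) x)
      map_one' := by simp
      map_mul' := fun x y => by simp [Finset.prod_mul_distrib] }
  have hf : f.ker = ⊤ := by
    rw [eq_top_iff, ← T.setup.gen, Subgroup.closure_le]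
    rintro _ ⟨δ, hδ, x, rfl⟩
    change f (δ x * x⁻¹) = 1
    rw [map_mul, map_inv, mul_inv_eq_one]
    exact Fintype.prod_equiv (Equiv.mulRight ⟨δ, hδ⟩) _ _ fun ε => rfl
  have h1 : f e = 1 := MonoidHom.mem_ker.mp (hf.symm ▸ Subgroup.mem_top e : e ∈ f.ker)
  have h2 : π e ^ Nat.card ↥Γ = 1 := by
    rw [← h1, Nat.card_eq_fintype_card, ← Finset.card_univ, ← Finset.prod_const]
    exact Finset.prod_congr rfl fun δ _ => (hfix δ δ.2).symm
  exact (QuotientGroup.eq_one_iff e).1 (MinNC8.eq_one_of_odd_pow (T.setup.two.to_quotient W) T.setup.odd h2)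

/-- The product of an element and its two translates lies in the subgroup. -/
theorem three_mem (hX : ∀ a b : P, ⁅a, b⁆ ∈ W) (x : P) : x * γ x * γ (γ x) ∈ W := by
  haveI := T.normal
  refine T.fixed_coset hX ?_
  set π := QuotientGroup.mk' W with hπ
  have hmem : γ ^ 3 ∈ Γ := Γ.pow_mem T.rot.mem 3
  have h3 : x⁻¹ * γ (γ (γ x)) ∈ W := by
    have h := T.coset_of_fix (ε := γ ^ 3) (fun w hw => by
      rw [pow_succ, pow_succ, pow_one, MulAut.mul_apply, MulAut.mul_apply, T.gamma_three hw]) x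
    rwa [pow_succ, pow_succ, pow_one, MulAut.mul_apply, MulAut.mul_apply] at h
  have e : (x * γ x * γ (γ x))⁻¹ * γ (x * γ x * γ (γ x)) =
      ⁅(γ x * γ (γ x))⁻¹, x⁻¹⁆ * (x⁻¹ * γ (γ (γ x))) := by
    rw [map_mul, map_mul, commutatorElement_def]; group
  rw [e]
  exact W.mul_mem (hX _ _) h3

/-- Four classes modulo the squares. -/
theorem classes {a b w : P} (ha : a ∈ W) (hb : b ∈ W) (hw : w ∈ W) (ha' : a ∉ powers W T.comm 2)
    (hb' : b ∉ powers W T.comm 2) (hab : a⁻¹ * b ∉ powers W T.comm 2) :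
    w ∈ powers W T.comm 2 ∨ a⁻¹ * w ∈ powers W T.comm 2 ∨ b⁻¹ * w ∈ powers W T.comm 2 ∨
      (a * b)⁻¹ * w ∈ powers W T.comm 2 := by
  classical
  by_contra hne
  push Not at hne
  set S2 := powers W T.comm 2 with hS2
  letI : Fintype (↥W ⧸ S2.subgroupOf W) := Fintype.ofFinite _
  have hq : ∀ u v : ↥W, ((u : ↥W ⧸ S2.subgroupOf W) = v) ↔ (u : P)⁻¹ * v ∈ S2 := fun u v => by
    rw [QuotientGroup.eq, Subgroup.mem_subgroupOf]; rfl
  have hba : b⁻¹ * (a * b) ∉ S2 := by rw [T.cw a ha b hb]; simpa using ha'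
  have hab2 : a * b ∉ S2 := fun h => hab (by
    have h2 := S2.mul_mem (S2.inv_mem (show a ^ 2 ∈ S2 from ⟨a, ha, rfl⟩)) h
    rwa [show (a ^ 2)⁻¹ * (a * b) = a⁻¹ * b by group] at h2)
  have hsub : ({((⟨1, W.one_mem⟩ : ↥W) : ↥W ⧸ S2.subgroupOf W), ((⟨a, ha⟩ : ↥W) : ↥W ⧸ S2.subgroupOf W),
      ((⟨b, hb⟩ : ↥W) : ↥W ⧸ S2.subgroupOf W), ((⟨a * b, W.mul_mem ha hb⟩ : ↥W) : ↥W ⧸ S2.subgroupOf W),
      ((⟨w, hw⟩ : ↥W) : ↥W ⧸ S2.subgroupOf W)} : Finset _).card ≤ Fintype.card (↥W ⧸ S2.subgroupOf W) :=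
    Finset.card_le_univ _
  rw [Finset.card_insert_of_notMem (by
      simp only [Finset.mem_insert, Finset.mem_singleton, hq, inv_one, one_mul]
      push Not
      exact ⟨ha', hb', hab2, hne.1⟩),
    Finset.card_insert_of_notMem (by
      simp only [Finset.mem_insert, Finset.mem_singleton, hq]
      push Not
      exact ⟨hab, by simpa using hb', hne.2.1⟩),
    Finset.card_insert_of_notMem (by
      simp only [Finset.mem_insert, Finset.mem_singleton, hq]
      push Not
      exact ⟨hba, hne.2.2.1⟩),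
    Finset.card_pair (fun e => hne.2.2.2 ((hq _ _).1 e)), ← Nat.card_eq_fintype_card] at hsub
  have := T.relIndex_sq
  rw [← hS2, Subgroup.relIndex, Subgroup.index] at this
  omega

/-- The elements moving the subgroup only inside its four-group. -/
def small : Subgroup P where
  carrier := {x | x * x ∈ W ∧ (∀ g, ⁅x, g⁆ ∈ W) ∧ ∀ w ∈ W, ⁅x, w⁆ ∈ omega W T.comm}
  one_mem' := ⟨by simp [W.one_mem], fun g => by simp [W.one_mem], fun w _ => by
    simp [(omega W T.comm).one_mem]⟩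
  mul_mem' := by
    rintro a b ⟨ha2, hac, haz⟩ ⟨hb2, hbc, hbz⟩
    refine ⟨?_, fun g => ?_, fun w hw => ?_⟩
    · rw [show a * b * (a * b) = a * a * ⁅a⁻¹, b⁆ * (b * b) by rw [commutatorElement_def]; group]
      refine W.mul_mem (W.mul_mem ha2 ?_) hb2
      rw [show ⁅a⁻¹, b⁆ = a⁻¹ * ⁅a, b⁆⁻¹ * a⁻¹⁻¹ by simp only [commutatorElement_def]; group]
      exact T.normal.conj_mem _ (W.inv_mem (hac b)) _
    · rw [show ⁅a * b, g⁆ = a * ⁅b, g⁆ * a⁻¹ * ⁅a, g⁆ by simp only [commutatorElement_def]; group]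
      exact W.mul_mem (T.normal.conj_mem _ (hbc g) a) (hac g)
    · rw [show ⁅a * b, w⁆ = a * ⁅b, w⁆ * a⁻¹ * ⁅a, w⁆ by simp only [commutatorElement_def]; group,
        Subgroup.mem_center_iff.1 (T.omega_central (hbz w hw)) a, mul_inv_cancel_right]
      exact Subgroup.mul_mem _ (hbz w hw) (haz w hw)
  inv_mem' := by
    rintro a ⟨ha2, hac, haz⟩
    refine ⟨by simpa using W.inv_mem ha2, fun g => ?_, fun w hw => ?_⟩
    · rw [show ⁅a⁻¹, g⁆ = a⁻¹ * ⁅a, g⁆⁻¹ * a⁻¹⁻¹ by simp only [commutatorElement_def]; group]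
      exact T.normal.conj_mem _ (W.inv_mem (hac g)) _
    · rw [show ⁅a⁻¹, w⁆ = a⁻¹ * ⁅a, w⁆⁻¹ * a⁻¹⁻¹ by simp only [commutatorElement_def]; group,
        Subgroup.mem_center_iff.1 (T.omega_central (Subgroup.inv_mem _ (haz w hw))) a⁻¹,
        mul_inv_cancel_right]
      exact Subgroup.inv_mem _ (haz w hw)

theorem mem_small {x : P} : x ∈ T.small ↔ x * x ∈ W ∧ (∀ g, ⁅x, g⁆ ∈ W) ∧
    ∀ w ∈ W, ⁅x, w⁆ ∈ omega W T.comm := Iff.rfl

theorem W_le_small : W ≤ T.small := fun w hw => ⟨W.mul_mem hw hw, fun g => by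
    rw [← commutatorElement_inv]; exact W.inv_mem (T.comm_mem g hw), fun v hv => by
    rw [commutatorElement_eq_one_iff_mul_comm.2 (T.cw w hw v hv)]; exact Subgroup.one_mem _⟩

theorem gamma_small {x : P} (hx : x ∈ T.small) : γ x ∈ T.small :=
  ⟨by rw [← map_mul]; exact T.gw hx.1, fun g => by
    simpa [map_commutatorElement] using T.gw (hx.2.1 (γ⁻¹ g)), fun w hw => by
    simpa [map_commutatorElement] using
      T.rot.inv γ T.rot.mem _ (hx.2.2 (γ⁻¹ w) (T.inv _ (Γ.inv_mem T.rot.mem) w hw))⟩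

theorem small_add {a b w : P} (ha : a ∈ T.small) (hb : b ∈ T.small) (hw : w ∈ W) :
    ⁅a * b, w⁆ = ⁅a, w⁆ * ⁅b, w⁆ := by
  rw [show ⁅a * b, w⁆ = a * ⁅b, w⁆ * a⁻¹ * ⁅a, w⁆ by simp only [commutatorElement_def]; group,
    Subgroup.mem_center_iff.1 (T.omega_central (hb.2.2 w hw)) a, mul_inv_cancel_right]
  exact (Subgroup.mem_center_iff.1 (T.omega_central (hb.2.2 w hw)) _).symm

theorem small_sq {a s : P} (ha : a ∈ T.small) (hs : s ∈ powers W T.comm 2) : ⁅a, s⁆ = 1 := by
  obtain ⟨v, hv, rfl⟩ := hs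
  rw [T.f_pow a hv, (ha.2.2 v hv).2]

/-- **No element squares outside the squares.** -/
theorem no_square (hcomm : ∀ a ∈ T.small, ∀ b ∈ T.small, ⁅a, b⁆ ∈ powers W T.comm 2) {x : P}
    (hx : x ∈ T.small) (hxS : x * x ∉ powers W T.comm 2)
    (hgen : T.small ≤ Subgroup.closure ((W : Set P) ∪ {x, γ x})) : False := by
  set y := γ x with hy
  have hyL : y ∈ T.small := T.gamma_small hx
  have hyy : y * y = γ (x * x) := by rw [map_mul]
  have hxx : x * x ∈ W := hx.1
  have hyS : y * y ∉ powers W T.comm 2 := by rw [hyy]; exact fun h => hxS (T.inv_gamma h)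
  have hxy : (x * x)⁻¹ * (y * y) ∉ powers W T.comm 2 := by
    rw [hyy]; exact fun h => hxS (T.free_sq hxx h)
  set z := ⁅x, y * y⁆ with hzdef
  have hz : z ∈ omega W T.comm := hx.2.2 _ hyL.1
  -- the two mixed values agree
  have hsame : ⁅y, x * x⁆ = z := by
    have hs : x * y * (x * y) * (x * x * (y * y))⁻¹ ∈ powers W T.comm 2 := by
      rw [show x * y * (x * y) * (x * x * (y * y))⁻¹ = x * ⁅y, x⁆ * x⁻¹ by
        rw [commutatorElement_def]; group]
      exact (T.powers_normal 2).conj_mem _ (hcomm y hyL x hx) x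
    set s := x * y * (x * y) * (x * x * (y * y))⁻¹ with hsdef
    have h1 : ⁅x * y, x * y * (x * y)⁆ = 1 :=
      commutatorElement_eq_one_iff_mul_comm.2 (by simp only [mul_assoc])
    have hxyW : x * x * (y * y) ∈ W := W.mul_mem hxx hyL.1
    rw [show x * y * (x * y) = s * (x * x * (y * y)) by rw [hsdef]; group,
      T.f_mul _ (T.sq_le hs) hxyW, T.small_sq (T.small.mul_mem hx hyL) hs, one_mul,
      T.f_mul _ hxx hyL.1, T.small_add hx hyL hxx, T.small_add hx hyL hyL.1,
      commutatorElement_eq_one_iff_mul_comm.2 (show x * (x * x) = x * x * x by rw [mul_assoc]),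
      commutatorElement_eq_one_iff_mul_comm.2 (show y * (y * y) = y * y * y by rw [mul_assoc]),
      one_mul, mul_one, mul_eq_one_iff_eq_inv] at h1
    rw [h1, inv_eq_iff_mul_eq_one, ← sq, hz.2]
  set U := Subgroup.zpowers z with hU
  have key : ∀ a ∈ Subgroup.closure ((W : Set P) ∪ {x, y}),
      a ∈ T.small ∧ ⁅a, x * x⁆ ∈ U ∧ ⁅a, y * y⁆ ∈ U := by
    intro a ha
    induction ha using Subgroup.closure_induction with
    | mem a ha =>
      rcases ha with ha | ha | ha
      · exact ⟨T.W_le_small ha, by rw [commutatorElement_eq_one_iff_mul_comm.2 (T.cw a ha _ hxx)]; exact U.one_mem,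
          by rw [commutatorElement_eq_one_iff_mul_comm.2 (T.cw a ha _ hyL.1)]; exact U.one_mem⟩
      · subst ha
        exact ⟨hx, by rw [commutatorElement_eq_one_iff_mul_comm.2 (show a * (a * a) = a * a * a by rw [mul_assoc])]; exact U.one_mem,
          Subgroup.mem_zpowers _⟩
      · rw [Set.mem_singleton_iff.1 ha]
        exact ⟨hyL, by rw [hsame]; exact Subgroup.mem_zpowers _,
          by rw [commutatorElement_eq_one_iff_mul_comm.2 (show y * (y * y) = y * y * y by rw [mul_assoc])]; exact U.one_mem⟩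
    | one => simp [U.one_mem, T.small.one_mem]
    | mul a b _ _ h1 h2 =>
      exact ⟨T.small.mul_mem h1.1 h2.1, by rw [T.small_add h1.1 h2.1 hxx]; exact U.mul_mem h1.2.1 h2.2.1,
        by rw [T.small_add h1.1 h2.1 hyL.1]; exact U.mul_mem h1.2.2 h2.2.2⟩
    | inv a _ h1 =>
      have e1 := T.small_add h1.1 (T.small.inv_mem h1.1) hxx
      have e2 := T.small_add h1.1 (T.small.inv_mem h1.1) hyL.1
      rw [mul_inv_cancel, commutatorElement_one_left] at e1 e2
      refine ⟨T.small.inv_mem h1.1, ?_, ?_⟩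
      · rw [← inv_eq_of_mul_eq_one_right e1.symm]; exact U.inv_mem h1.2.1
      · rw [← inv_eq_of_mul_eq_one_right e2.symm]; exact U.inv_mem h1.2.2
  have hzfix : γ z ∈ U := by
    have h := (key _ (hgen (T.gamma_small hyL))).2.2
    rw [hyy, ← map_commutatorElement, hsame] at h
    exact h
  have hz1 : z = 1 := by
    by_contra hne
    have e : U = omega W T.comm := T.rot.eq_of_inv (Subgroup.zpowers_le.2 hz)
      (fun h => hne (Subgroup.zpowers_eq_bot.1 h)) fun u hu => by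
        obtain ⟨i, rfl⟩ := Subgroup.mem_zpowers_iff.1 hu
        rw [map_zpow]; exact U.zpow_mem hzfix i
    have h4 := T.rot.card
    rw [← e, hU, Nat.card_zpowers] at h4
    have := orderOf_le_of_pow_eq_one (x := z) (n := 2) (by norm_num) hz.2
    omega
  let K : Subgroup P :=
    { carrier := {w | w ∈ W ∧ ⁅x, w⁆ = 1}
      one_mem' := ⟨W.one_mem, by simp⟩
      mul_mem' := fun {a b} ha hb => ⟨W.mul_mem ha.1 hb.1, by rw [T.f_mul x ha.1 hb.1, ha.2, hb.2, one_mul]⟩
      inv_mem' := fun {a} ha => ⟨W.inv_mem ha.1, by rw [T.f_inv x ha.1, ha.2, inv_one]⟩ }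
  have hK : K = W := T.four (fun w hw => hw.1) (fun s hs => ⟨T.sq_le hs, T.small_sq hx hs⟩)
    (a := x * x) (b := y * y)
    ⟨hxx, commutatorElement_eq_one_iff_mul_comm.2 (by rw [mul_assoc])⟩ ⟨hyL.1, hz1⟩ hxS hyS hxy
  refine hxS ⟨x, T.self_centralizing.le (Subgroup.mem_centralizer_iff.2 fun w hw => ?_), sq x⟩
  exact (commutatorElement_eq_one_iff_mul_comm.1 (hK.ge hw).2).symm

end

end Top

end Cfsg.Agent.Lib.ScnTwo
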